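import Cfsg.Agent.Classical.OrthH1.Basic

/-!
Coded computations in the elliptic quadratic space of dimension six over the field with two elements: the stabiliser of
a singular point, its radical and its action on the section.
-/

set_option autoImplicit false
set_option maxRecDepth 100000
set_option maxHeartbeats 2000000

namespace Cfsg.Lib.SuzukiType.Code

open Cfsg.Lib.Classical.OrthH1 (lN pN sN)

/-- The coded form. -/
def qB (x : ℕ) : Bool :=
  (x.testBit 0 && x.testBit 2) ^^ (x.testBit 1 && x.testBit 3) ^^ x.testBit 4 ^^ (x.testBit 4 && x.testBit 5) ^^ x.testBit 5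

/-- The coded polar form. -/
abbrev pB : ℕ → ℕ → Bool := pN qB

/-- Generators of the group. -/
def g1 : List (ℕ × ℕ) := [(48, 40), (13, 44), (25, 10)]

/-- Generators inside the stabiliser of the point with code one. -/
def g2 : List (ℕ × ℕ) := [(16, 57), (50, 32)]

/-- A reflection. -/
def rf (u x : ℕ) : ℕ := if pB u x then x ^^^ u else x

/-- The action of a word in pairs of reflections. -/
def wact (gs : List (ℕ × ℕ)) (w : List ℕ) (x : ℕ) : ℕ :=
  w.foldr (fun i y => rf (gs.getD i (0, 0)).1 (rf (gs.getD i (0, 0)).2 y)) x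

/-- The representative in the section. -/
def nr (x : ℕ) : ℕ := x &&& 58

/-- The section. -/
def W : List ℕ := [0, 2, 8, 10, 16, 18, 24, 26, 32, 34, 40, 42, 48, 50, 56, 58]

/-- The radical element of a vector of the section. -/
def rho (w x : ℕ) : ℕ := sN qB 1 w x

/-- Words moving the point to every singular point. -/
def w27 : List (ℕ × List ℕ) := [(1, []), (2, [1, 0, 2, 2, 1]), (3, [2, 1, 1, 2, 0, 1]), (4, [2, 2, 0, 1]), (6, [2, 1, 1]), (8, [2, 1, 0, 2, 2, 1]), (9, [1, 2, 2, 0, 1]), (12, [1, 1]), (15, [0, 2, 2, 1]), (21, [2, 2, 1, 1]), (23, [2, 0, 1]), (26, [1, 1, 2, 0, 1]), (27, [0, 2, 1, 1, 2, 0, 1]), (29, [0, 1]), (30, [0, 2, 1, 1]), (37, [1, 1, 2, 2, 0, 1]), (39, [2, 2, 1]), (42, [1, 2, 2, 1]), (43, [0, 0, 2, 1, 1, 2, 0, 1]), (45, [1]), (46, [0, 0, 2, 1, 1]), (53, [0, 0, 1]), (55, [2, 0, 0, 2, 1, 1]), (58, [1, 0, 2, 1, 1, 2, 0, 1]), (59, [1, 2, 0, 1]), (61, [0, 2, 2, 1, 1]), (62, [2, 1])]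

/-- Words moving a singular vector of the section to all of them. -/
def w5 : List (ℕ × List ℕ) := [(2, []), (8, [1, 1, 0, 0]), (26, [1, 0, 0]), (42, [0]), (58, [0, 0])]

/-- Words moving a nonsingular vector of the section to all of them. -/
def w10 : List (ℕ × List ℕ) := [(10, []), (16, [1, 0]), (18, [1, 1, 0, 0]), (24, [1, 1]), (32, [1, 0, 0]), (34, [0]), (40, [0, 1]), (48, [1, 1, 0]), (50, [0, 0]), (56, [1])]

/-- Words moving an anisotropic pair of the section to all of them. -/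
def w60 : List ((ℕ × ℕ) × List ℕ) := [((10, 18), []), ((10, 24), [1, 1, 0, 1, 0]), ((10, 34), [1, 0, 0, 1, 1, 0]), ((10, 40), [0, 1, 1, 0, 1, 1, 0]), ((10, 50), [0, 0, 1, 0, 1, 1]), ((10, 56), [1, 0, 1, 0, 0]), ((16, 32), [0, 1, 1, 0, 0, 1, 0]), ((16, 34), [0, 0, 1]), ((16, 40), [0, 1, 0, 1]), ((16, 48), [0, 1, 1, 0, 1]), ((16, 50), [1, 0]), ((16, 56), [1, 1, 0, 1, 1]), ((18, 10), [1, 0, 1, 1, 0]), ((18, 24), [0, 1, 1, 0, 0]), ((18, 32), [1, 1, 0, 0]), ((18, 34), [1, 0, 0, 1, 1]), ((18, 48), [0, 0, 1, 1, 0, 0]), ((18, 50), [0, 1, 0, 0, 1, 1]), ((24, 10), [0, 1, 0, 0]), ((24, 18), [1, 0, 0, 1, 1, 0, 1]), ((24, 32), [1, 1]), ((24, 40), [0, 0, 1, 0, 0, 1]), ((24, 48), [0, 0, 1, 1, 0]), ((24, 56), [1, 0, 1, 0]), ((32, 16), [0, 0, 1, 0, 1, 0]), ((32, 18), [1, 0, 1, 1, 0, 0, 1]), ((32, 24), [0, 1, 1, 0]), ((32, 48), [0, 0, 1, 1]), ((32, 50), [1, 0, 0]), ((32, 56), [0, 1, 0, 0, 1]), ((34, 10), [1, 0, 1, 1]), ((34, 16), [1, 0, 0, 1, 0, 0]), ((34, 18), [0]), ((34,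 40), [0, 1, 0, 1, 0, 0]), ((34, 48), [1, 1, 0, 0, 1]), ((34, 50), [0, 1, 0, 0, 1, 1, 0]), ((40, 10), [0, 1]), ((40, 16), [1, 0, 0, 1, 0]), ((40, 24), [1, 1, 0, 1]), ((40, 34), [0, 0, 1, 0]), ((40, 48), [1, 1, 0, 0, 1, 0]), ((40, 56), [1, 0, 1]), ((48, 16), [1, 0, 0, 1]), ((48, 18), [1, 0, 1, 1, 0, 0, 1, 0]), ((48, 24), [0, 1, 1]), ((48, 32), [1, 1, 0]), ((48, 34), [0, 0, 1, 0, 0]), ((48, 40), [0, 1, 0, 1, 0]), ((50, 10), [1, 0, 1, 1, 0, 0]), ((50, 16), [1, 1, 0, 0, 1, 1]), ((50, 18), [0, 0]), ((50, 32), [0, 1, 1, 0, 0, 1]), ((50, 34), [0, 1, 0, 1, 1]), ((50, 56), [1, 1, 0, 1, 1, 0]), ((56, 10), [0, 1, 0]), ((56, 16), [0, 0, 1, 0, 1]), ((56, 24), [1, 1, 0, 1, 0, 0]), ((56, 32), [0, 0, 1, 1, 0, 1]), ((56, 40), [0, 1, 1, 0, 1, 1]), ((56, 50), [1])]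

theorem g1_ok : ∀ g ∈ g1, g.1 < 64 ∧ g.2 < 64 ∧ qB g.1 = true ∧ qB g.2 = true ∧ pB g.1 g.2 = true := by decide +kernel

theorem g2_ok : ∀ g ∈ g2, g.1 < 64 ∧ g.2 < 64 ∧ qB g.1 = true ∧ qB g.2 = true ∧ pB g.1 g.2 = true ∧
    pB g.1 1 = false ∧ pB g.2 1 = false := by decide +kernel

theorem trans27 : ((List.range 64).all fun x => qB x || x == 0 || w27.any fun t => t.1 == x && wact g1 t.2 1 == x &&
    t.2.all (· < g1.length)) = true := by decide +kernel

theorem trans5 : (W.all fun x => qB x || x == 0 || w5.any fun t => t.1 == x && nr (wact g2 t.2 2) == x) = true := by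
  decide +kernel

theorem trans10 : (W.all fun x => !qB x || w10.any fun t => t.1 == x && nr (wact g2 t.2 10) == x) = true := by
  decide +kernel

theorem trans60 : (W.all fun a => !qB a || W.all fun b => !qB b || !pB a b ||
    w60.any fun t => t.1 == (a, b) && (nr (wact g2 t.2 10), nr (wact g2 t.2 18)) == (a, b)) = true := by
  decide +kernel

/-- A set containing a non-zero vector of each orbit closes to the section. -/
theorem span5 : (W.all fun x => [0, 2, 8, 26, 42, 58].any fun a => [0, 2, 8, 26, 42, 58].any fun b =>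
    a ^^^ b == x) = true := by decide +kernel

theorem span10 : (W.all fun x => (0 :: w10.map (·.1)).any fun a => (0 :: w10.map (·.1)).any fun b => a ^^^ b == x) = true := by
  decide +kernel

/-- A functional fixed by the stabiliser of a singular vector. -/
theorem fixed_functional : (W.all fun c =>
    !([[1], [0, 0, 1, 0]].all fun w => W.all fun x => pB c (nr (wact g2 w x)) == pB c x) || c == 0 || c == 2) = true ∧
    ([[1], [0, 0, 1, 0]].all fun w => nr (wact g2 w 2) == 2) = true := by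
  decide +kernel

/-- The form by table. -/
def qT (x : ℕ) : Bool := Nat.testBit 0x935f935f935f6ca0 x

/-- The polar form by table. -/
def pT (a b : ℕ) : Bool := Nat.testBit 0x6996966996696996996666996699996696966969696996966666999999996666c33c3cc33cc3c33c33cccc33cc3333cc3c3cc3c3c3c33c3ccccc33333333cccca55a5aa55aa5a55a55aaaa55aa5555aa5a5aa5a5a5a55a5aaaaa55555555aaaa0ff0f00ff00f0ff0ff0000ff00ffff00f0f00f0f0f0ff0f00000ffffffff000096696996966969966699996666999966696996966969969699996666999966663cc3c33c3cc3c33ccc3333cccc3333ccc3c33c3cc3c33c3c3333cccc3333cccc5aa5a55a5aa5a55aaa5555aaaa5555aaa5a55a5aa5a55a5a5555aaaa5555aaaaf00f0ff0f00f0ff000ffff0000ffff000f0ff0f00f0ff0f0ffff0000ffff000096699669699669966699669999669966696969699696969699999999666666663cc33cc3c33cc33ccc33cc3333cc33ccc3c3c3c33c3c3c3c33333333cccccccc5aa55aa5a55aa55aaa55aa5555aa55aaa5a5a5a55a5a5a5a55555555aaaaaaaaf00ff00f0ff00ff000ff00ffff00ff000f0f0f0ff0f0f0f0ffffffff000000006996699669966996996699669966996696969696969696966666666666666666c33cc33cc33cc33c33cc33cc33cc33cc3c3c3c3c3c3c3c3ccccccccccccccccca55aa55aa55aa55a55aa55aa55aa55aa5a5a5a5a5a5a5a5aaaaaaaaaaaaaaaaa0ff00ff00ff00ff0ff00ff00ff00ff00f0f0f0f0f0f0f0f00000000000000000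 (a * 64 + b)

theorem table_q : ((List.range 64).all fun x => qT x == qB x) = true := by decide +kernel

theorem table_p : ((List.range 64).all fun x => (List.range 64).all fun y => pT x y == pB x y) = true := by decide +kernel

/-- The singular vectors. -/
def sing : List ℕ := [0, 1, 2, 3, 4, 6, 8, 9, 12, 15, 21, 23, 26, 27, 29, 30, 37, 39, 42, 43, 45, 46, 53, 55, 58, 59, 61, 62]

/-- The nonsingular vectors. -/
def nons : List ℕ := [5, 7, 10, 11, 13, 14, 16, 17, 18, 19, 20, 22, 24, 25, 28, 31, 32, 33, 34, 35, 36, 38, 40, 41, 44, 47, 48, 49, 50, 51, 52, 54, 56, 57, 60, 63]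

theorem lists_ok : ((List.range 64).all fun x => bif qB x then nons.contains x else sing.contains x) = true := by
  decide +kernel

/-- All isometries fixing the point with code one. -/
def chk (P : ℕ → ℕ → ℕ → ℕ → ℕ → Bool) : Bool :=
  sing.all fun a => pT 1 a || sing.all fun b => !pT 1 b || pT a b ||
    sing.all fun c => pT 1 c || !pT a c || pT b c ||
      nons.all fun d => pT 1 d || pT a d || pT b d || pT c d ||
        nons.all fun e => pT 1 e || pT a e || pT b e || pT c e || !pT d e || P a b c d e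

/-- The linear map with the given images of the basis. -/
def ap (a b c d e x : ℕ) : ℕ :=
  (bif x.testBit 0 then 1 else 0) ^^^ (bif x.testBit 1 then a else 0) ^^^ (bif x.testBit 2 then b else 0) ^^^
    (bif x.testBit 3 then c else 0) ^^^ (bif x.testBit 4 then d else 0) ^^^ (bif x.testBit 5 then e else 0)

/-- All codes. -/
def V64 : List ℕ := [0, 1, 2, 3, 4, 5, 6, 7, 8, 9, 10, 11, 12, 13, 14, 15, 16, 17, 18, 19, 20, 21, 22, 23, 24, 25, 26, 27, 28, 29, 30, 31, 32, 33, 34, 35, 36, 37, 38, 39, 40, 41, 42, 43, 44, 45, 46, 47, 48, 49, 50, 51, 52, 53, 54, 55, 56, 57, 58, 59, 60, 61, 62, 63]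

/-- Trivial on the hyperplane modulo the point. -/
def radC (a b c d e p : ℕ) : Bool :=
  V64.all fun x => pT p x || (fun y => y == 0 || y == p) (ap a b c d e x ^^^ x)

/-- An involution of even rank lies in a radical. -/
def invChk (a b c d e : ℕ) : Bool :=
  !(ap a b c d e a == 2) || !(ap a b c d e b == 4) || !(ap a b c d e c == 8) || !(ap a b c d e d == 16) ||
    !(ap a b c d e e == 32) ||
    (fun n => !(n == 4 || n == 16 || n == 64)) (V64.foldr (fun x n => bif ap a b c d e x == x then n + 1 else n) 0) ||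
    sing.any fun p => p != 0 && ap a b c d e p == p && radC a b c d e p

/-- The radical. -/
def radChk (a b c d e : ℕ) : Bool :=
  !(a ^^^ 2 == 0 || a ^^^ 2 == 1) || !(c ^^^ 8 == 0 || c ^^^ 8 == 1) || !(d ^^^ 16 == 0 || d ^^^ 16 == 1) ||
    !(e ^^^ 32 == 0 || e ^^^ 32 == 1) ||
    W.any fun w => rho w 1 == 1 && rho w 2 == a && rho w 4 == b && rho w 8 == c && rho w 16 == d && rho w 32 == e

/-- Words used against abelian normal subgroups. -/
def hs : List (List ℕ) := [[0], [1], [0, 1], [1, 0]]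

/-- The action on the section. -/
def fw (a b c d e x : ℕ) : ℕ := nr (ap a b c d e x)

/-- A conjugate of the action on the section. -/
def fc (a b c d e : ℕ) (w : List ℕ) (x : ℕ) : ℕ :=
  nr (wact g2 w (fw a b c d e (nr (wact (g2.map Prod.swap) w.reverse x))))

/-- A nontrivial involution of the section fails to commute with one of its conjugates. -/
def normChk (a b c d e : ℕ) : Bool :=
  !(fw a b c d e (nr a) == 2) || !(fw a b c d e (nr c) == 8) || !(fw a b c d e (nr d) == 16) ||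
    !(fw a b c d e (nr e) == 32) || (nr a == 2 && nr c == 8 && nr d == 16 && nr e == 32) ||
    hs.any fun w => [2, 8, 16, 32].any fun x => fw a b c d e (fc a b c d e w x) != fc a b c d e w (fw a b c d e x)

theorem stab_checks : chk (fun a b c d e => radChk a b c d e && normChk a b c d e && invChk a b c d e) = true := by
  decide +kernel

theorem rho_conj : ((List.range g2.length).all fun i => W.all fun w => (List.range 64).all fun x =>
    wact g2 [i] (rho w x) == rho (nr (wact g2 [i] w)) (wact g2 [i] x)) = true := by decide +kernel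

end Cfsg.Lib.SuzukiType.Code
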