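import Cfsg.Agent.SuzukiType.Space
import Mathlib.GroupTheory.Perm.Cycle.Type

/-!
The stabiliser of a singular point in the elliptic space of dimension six: its radical and its action on the section.
-/

set_option autoImplicit false
set_option maxRecDepth 100000
set_option maxHeartbeats 1000000
set_option linter.style.haveILetI false

namespace Cfsg.Lib.SuzukiType

open Matrix Cfsg.Lib.Classical Cfsg.Lib.Classical.OrthH1 Cfsg.Lib.SuzukiType.Code

/-- The group `Ω`. -/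
abbrev Om : Subgroup O6 := Cfsg.Omega (ZMod 2) (⇑qf)

/-- The action on the section at the point with code one. -/
noncomputable def sa (g : O6) (x : ℕ) : ℕ := nr (cd g x)

/-- Trivial on the hyperplane modulo the point. -/
def Rad (g : O6) (p : ℕ) : Prop := ∀ x < 64, pB p x = false → cd g x ^^^ x = 0 ∨ cd g x ^^^ x = p

theorem W_lt : ∀ w ∈ W, w < 64 ∧ pB 1 w = false ∧ nr w = w := by decide +kernel

theorem nr_mem : ∀ x < 64, nr x ∈ W := by decide +kernel

theorem nr_facts : ∀ x < 64, pB 1 x = false → x ^^^ nr x ≤ 1 ∧ qB (nr x) = qB x := by decide +kernel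

theorem nr_pB : ((List.range 64).all fun a => pB 1 a || (List.range 64).all fun b => pB 1 b || pB (nr a) (nr b) == pB a b)
    = true := by decide +kernel

theorem nr_xor (a b : ℕ) : nr (a ^^^ b) = nr a ^^^ nr b := Nat.and_xor_distrib_right

theorem xor_eq_zero' {a b : ℕ} : a ^^^ b = 0 ↔ a = b :=
  ⟨fun h => by simpa using congrArg (· ^^^ b) h, fun h => by simp [h]⟩

theorem pB_comm : ∀ a b : ℕ, pB a b = pB b a := fun a b => by
  show (qB _ ^^ qB _ ^^ qB _) = (qB _ ^^ qB _ ^^ qB _)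
  rw [Nat.xor_comm a b]
  cases qB (b ^^^ a) <;> cases qB a <;> cases qB b <;> rfl

variable {g : O6}

theorem perp_cd (h1 : cd g 1 = 1) {x : ℕ} (hx : x < 64) (hp : pB 1 x = false) : pB 1 (cd g x) = false := by
  rw [← hp]
  conv_lhs => rw [← h1]
  exact cd_p g (by norm_num) hx

/-- The action on the section is well defined on the hyperplane. -/
theorem sa_nr (h1 : cd g 1 = 1) {x : ℕ} (hx : x < 64) (hp : pB 1 x = false) : sa g (nr x) = sa g x := by
  have e := (nr_facts x hx hp).1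
  have h : cd g x ^^^ cd g (nr x) = x ^^^ nr x := by
    rw [← cd_xor]
    rcases Nat.le_one_iff_eq_zero_or_eq_one.mp e with e | e <;> rw [e]
    · exact cd_zero g
    · exact h1
  refine (xor_eq_zero'.mp ?_).symm
  rw [sa, sa, ← nr_xor, h]
  rcases Nat.le_one_iff_eq_zero_or_eq_one.mp e with e | e <;> rw [e] <;> rfl

theorem sa_mem (g : O6) (x : ℕ) : sa g x ∈ W := nr_mem _ (cd_lt g x)

theorem sa_q (h1 : cd g 1 = 1) {w : ℕ} (hw : w ∈ W) : qB (sa g w) = qB w := by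
  obtain ⟨h, hp, -⟩ := W_lt w hw
  rw [sa, (nr_facts _ (cd_lt g w) (perp_cd h1 h hp)).2, cd_q g h]

theorem nr_p {a b : ℕ} (ha : a < 64) (hb : b < 64) (pa : pB 1 a = false) (pb : pB 1 b = false) :
    pB (nr a) (nr b) = pB a b := by
  have h0 := List.all_eq_true.mp nr_pB a (List.mem_range.mpr ha)
  rw [pa, Bool.false_or, List.all_eq_true] at h0
  simpa [pb] using h0 b (List.mem_range.mpr hb)

theorem sa_p (h1 : cd g 1 = 1) {v w : ℕ} (hv : v ∈ W) (hw : w ∈ W) : pB (sa g v) (sa g w) = pB v w := by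
  obtain ⟨h, hp, -⟩ := W_lt v hv
  obtain ⟨h', hp', -⟩ := W_lt w hw
  rw [sa, sa, nr_p (cd_lt g v) (cd_lt g w) (perp_cd h1 h hp) (perp_cd h1 h' hp'), cd_p g h h']

theorem sa_mul {h : O6} (g1' : cd g 1 = 1) (h1 : cd h 1 = 1) {x : ℕ} (hx : x < 64) (hp : pB 1 x = false) :
    sa (g * h) x = sa g (sa h x) := by
  have e := sa_nr g1' (cd_lt h x) (perp_cd h1 hx hp)
  rw [sa, cd_mul]
  exact e.symm

theorem sa_xor (g : O6) (x y : ℕ) : sa g (x ^^^ y) = sa g x ^^^ sa g y := by rw [sa, cd_xor, nr_xor]; rfl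

theorem rho_facts : ∀ v ∈ W, ∀ y < 64, pB 1 y = true → nr (rho v y) = nr y ^^^ v ∧ rho v y < 64 := by decide +kernel

theorem rho_four : ∀ w ∈ W, rho w 4 = 4 ^^^ w ∨ rho w 4 = 4 ^^^ w ^^^ 1 := by decide +kernel

theorem rho_ap : ∀ w ∈ W, ∀ x < 64, ap (rho w 2) (rho w 4) (rho w 8) (rho w 16) (rho w 32) x = rho w x ∧
    rho w x < 64 ∧ rho w 1 = 1 := by decide +kernel

/-- An element fixing the point carries radical elements by its action on the section. -/
theorem sa_of_intertwine (h1 : cd g 1 = 1) {w v : ℕ} (hw : w ∈ W) (hv : v ∈ W)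
    (h : ∀ x < 64, cd g (rho w x) = rho v (cd g x)) : sa g w = v := by
  have h4 := congrArg nr (h 4 (by norm_num))
  have hp : pB 1 (cd g 4) = true := by
    conv_lhs => rw [← h1]
    rw [cd_p g (by norm_num) (by norm_num)]; decide
  rw [(rho_facts v hv _ (cd_lt g 4) hp).1] at h4
  rcases rho_four w hw with e | e <;> rw [e] at h4 <;> simp only [cd_xor, nr_xor, h1, show nr 1 = 0 from rfl,
    Nat.xor_zero] at h4 <;> exact Nat.xor_right_inj.mp h4

/-- The radical consists of the radical elements. -/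
theorem rad_rho (h1 : cd g 1 = 1) (hr : Rad g 1) : ∃ w ∈ W, ∀ x < 64, cd g x = rho w x := by
  have h := (checks h1).1
  have e : ∀ k ∈ [2, 8, 16, 32], cd g k ^^^ k = 0 ∨ cd g k ^^^ k = 1 := fun k hk =>
    hr k ((by decide : ∀ k ∈ [2, 8, 16, 32], k < 64) k hk) ((by decide : ∀ k ∈ [2, 8, 16, 32], pB 1 k = false) k hk)
  simp only [List.forall_mem_cons, List.not_mem_nil, IsEmpty.forall_iff, implies_true, and_true] at e
  obtain ⟨a, c, d, f⟩ := e
  simp only [radChk, Bool.or_eq_true, Bool.not_eq_true', beq_iff_eq, List.any_eq_true, Bool.and_eq_true,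
    Bool.or_eq_false_iff, beq_eq_false_iff_ne] at h
  rcases h with (((h | h) | h) | h) | ⟨w, hw, ⟨⟨⟨⟨-, r2⟩, r4⟩, r8⟩, r16⟩, r32⟩
  · exact absurd a (by simp [h.1, h.2])
  · exact absurd c (by simp [h.1, h.2])
  · exact absurd d (by simp [h.1, h.2])
  · exact absurd f (by simp [h.1, h.2])
  · refine ⟨w, hw, fun x hx => ?_⟩
    rw [cd_ap h1 hx, ← r2, ← r4, ← r8, ← r16, ← r32]
    exact (rho_ap w hw x hx).1

theorem rho_rad {w : ℕ} (hw : w ∈ W) (h : ∀ x < 64, cd g x = rho w x) : cd g 1 = 1 ∧ Rad g 1 := by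
  have hc : ∀ v ∈ W, ∀ x < 64, pB 1 x = false → rho v x ^^^ x = 0 ∨ rho v x ^^^ x = 1 := by decide +kernel
  refine ⟨by rw [h 1 (by norm_num)]; exact (rho_ap w hw 1 (by norm_num)).2.2, fun x hx hp => ?_⟩
  rw [h x hx]
  exact hc w hw x hx hp

/-- `Ω` is transitive on singular vectors. -/
theorem trans_sing {x : ℕ} (hx : x < 64) (h0 : x ≠ 0) (hq : qB x = false) : ∃ g ∈ Om, cd g 1 = x := by
  have h := List.all_eq_true.mp trans27 x (List.mem_range.mpr hx)
  simp only [hq, h0, beq_iff_eq, Bool.false_or, Bool.or_eq_true, false_or, List.any_eq_true, Bool.and_eq_true,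
    List.all_eq_true, decide_eq_true_eq] at h
  obtain ⟨t, -, ⟨-, h2⟩, hl⟩ := h
  obtain ⟨g, hg, he⟩ := exists_word1 t.2 hl
  exact ⟨g, hg, by rw [he 1 (by norm_num), h2]⟩

theorem sing_count : ((Finset.range 64).filter fun x => qB x = false ∧ x ≠ 0).card = 27 := by decide +kernel

/-- An involution fixes a singular vector. -/
theorem exists_fixed_sing (hg : g * g = 1) : ∃ p < 64, p ≠ 0 ∧ qB p = false ∧ cd g p = p := by
  let S := {x // x ∈ (Finset.range 64).filter fun x => qB x = false ∧ x ≠ 0}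
  haveI : Fact (Nat.Prime 2) := ⟨Nat.prime_two⟩
  have hm : ∀ x : S, x.1 < 64 ∧ qB x.1 = false ∧ x.1 ≠ 0 := fun x => by
    simpa using Finset.mem_filter.mp x.2
  have hgg : ∀ x < 64, cd g (cd g x) = x := fun x hx => by rw [← cd_mul, hg, cd_one hx]
  let σ : Equiv.Perm S := Function.Involutive.toPerm (fun x => ⟨cd g x.1, by
      simp only [Finset.mem_filter, Finset.mem_range]
      refine ⟨cd_lt _ _, by rw [cd_q g (hm x).1]; exact (hm x).2.1, fun e => (hm x).2.2 ?_⟩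
      rw [← hgg x.1 (hm x).1, e, cd_zero]⟩) fun x => Subtype.ext (hgg x.1 (hm x).1)
  obtain ⟨p, hp⟩ := Equiv.Perm.exists_fixed_point_of_prime (p := 2) (n := 1) (σ := σ)
    (by simp only [S, Fintype.card_coe, sing_count]; decide)
    (by ext x; exact hgg x.1 (hm x).1)
  exact ⟨p.1, (hm p).1, (hm p).2.2, (hm p).2.1, congrArg Subtype.val hp⟩

theorem inv_point (hg : g ∈ Om) (hgg : g * g = 1) (h1 : cd g 1 = 1) :
    ∃ p < 64, p ≠ 0 ∧ qB p = false ∧ cd g p = p ∧ Rad g p := by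
  have h := (checks h1).2.2
  have hi : ∀ x < 64, cd g (cd g x) = x := fun x hx => by rw [← cd_mul, hgg, cd_one hx]
  have hap : ∀ x < 64, ap (cd g 2) (cd g 4) (cd g 8) (cd g 16) (cd g 32) (cd g x) = x := fun x hx => by
    rw [← cd_ap h1 (cd_lt g x), hi x hx]
  have hfold : ∀ l : List ℕ, (∀ x ∈ l, x < 64) →
      l.foldr (fun x n => bif ap (cd g 2) (cd g 4) (cd g 8) (cd g 16) (cd g 32) x == x then n + 1 else n) 0 =
        l.foldr (fun x n => bif cd g x == x then n + 1 else n) 0 := by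
    intro l hl
    induction l with
    | nil => rfl
    | cons a l ih =>
      rw [List.foldr_cons, List.foldr_cons, ih fun x hx => hl x (List.mem_cons_of_mem _ hx),
        cd_ap h1 (hl a (List.mem_cons_self ..))]
  have hn := fix_count hg
  rw [← hfold V64 (by decide)] at hn
  simp only [invChk, hap 2 (by norm_num), hap 4 (by norm_num), hap 8 (by norm_num), hap 16 (by norm_num),
    hap 32 (by norm_num), beq_self_eq_true, Bool.not_true, Bool.false_or, Bool.or_eq_true, Bool.not_eq_true',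
    List.any_eq_true, Bool.and_eq_true, bne_iff_ne, ne_eq, beq_iff_eq] at h
  have hne : V64.foldr (fun x n => bif ap (cd g 2) (cd g 4) (cd g 8) (cd g 16) (cd g 32) x == x then n + 1 else n) 0 ≠ 1 := by
    rw [show V64 = 0 :: 1 :: List.range' 2 62 by decide, List.foldr_cons, List.foldr_cons,
      ← cd_ap h1 (by norm_num : 0 < 64), ← cd_ap h1 (by norm_num : 1 < 64), h1, cd_zero]
    simp
  rcases h with h | ⟨p, hp, ⟨h0, hfix⟩, hr⟩
  · exfalso
    simp only [List.mem_cons, List.not_mem_nil, or_false] at hn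
    rcases hn with e | e | e | e
    · exact hne e
    all_goals · rw [e] at h; simp at h
  · have hp' : ∀ p ∈ sing, p < 64 ∧ qB p = false := by decide +kernel
    obtain ⟨hlt, hq⟩ := hp' p hp
    refine ⟨p, hlt, h0, hq, by rw [cd_ap h1 hlt]; exact hfix, fun x hx hxp => ?_⟩
    have := List.all_eq_true.mp hr x (by rw [show V64 = List.range 64 by decide]; exact List.mem_range.mpr hx)
    rw [pT_eq hlt hx, hxp, Bool.false_or, ← cd_ap h1 hx] at this
    simpa using this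

theorem Rad.conj {p : ℕ} (hr : Rad g p) (hp : p < 64) (h : O6) : Rad (h * g * h⁻¹) (cd h p) := by
  intro x hx hxp
  have hy : pB p (cd h⁻¹ x) = false := by rw [← cd_p h hp (cd_lt _ _), cd_inv' h hx, hxp]
  have e : cd (h * g * h⁻¹) x ^^^ x = cd h (cd g (cd h⁻¹ x) ^^^ cd h⁻¹ x) := by
    rw [cd_xor, cd_inv' h hx, cd_mul, cd_mul]
  rw [e]
  rcases hr _ (cd_lt _ _) hy with h2 | h2 <;> rw [h2]
  · exact Or.inl (cd_zero h)
  · exact Or.inr rfl

/-- Every involution of `Ω` is conjugate to a radical element at the point with code one. -/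
theorem inv_conj (hg : g ∈ Om) (hgg : g * g = 1) :
    ∃ h ∈ Om, ∃ w ∈ W, ∀ x < 64, cd (h * g * h⁻¹) x = rho w x := by
  obtain ⟨p, hp, hp0, hq, hfix⟩ := exists_fixed_sing hgg
  obtain ⟨h, hh, he⟩ := trans_sing hp hp0 hq
  have he' : cd h⁻¹ p = 1 := by rw [← he, cd_inv h (by norm_num)]
  have h1 : cd (h⁻¹ * g * h⁻¹⁻¹) 1 = 1 := by rw [inv_inv, cd_mul, cd_mul, he, hfix, he']
  have hm : h⁻¹ * g * h⁻¹⁻¹ ∈ Om := mul_mem (mul_mem (inv_mem hh) hg) (inv_mem (inv_mem hh))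
  have hsq : h⁻¹ * g * h⁻¹⁻¹ * (h⁻¹ * g * h⁻¹⁻¹) = 1 := by
    rw [show h⁻¹ * g * h⁻¹⁻¹ * (h⁻¹ * g * h⁻¹⁻¹) = h⁻¹ * (g * g) * h by group, hgg, mul_one, inv_mul_cancel]
  obtain ⟨r, hr, hr0, hrq, hrfix, hrad⟩ := inv_point hm hsq h1
  obtain ⟨k, hk, hke⟩ := trans_sing hr hr0 hrq
  have hke' : cd k⁻¹ r = 1 := by rw [← hke, cd_inv k (by norm_num)]
  have h2 := Rad.conj hrad hr k⁻¹
  rw [hke'] at h2
  have h3 : cd (k⁻¹ * (h⁻¹ * g * h⁻¹⁻¹) * k⁻¹⁻¹) 1 = 1 := by
    rw [inv_inv, inv_inv, cd_mul, cd_mul, hke]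
    rw [inv_inv] at hrfix
    rw [hrfix, hke']
  obtain ⟨w, hw, hrho⟩ := rad_rho h3 h2
  refine ⟨k⁻¹ * h⁻¹, mul_mem (inv_mem hk) (inv_mem hh), w, hw, ?_⟩
  intro x hx
  rw [← hrho x hx, show k⁻¹ * h⁻¹ * g * (k⁻¹ * h⁻¹)⁻¹ = k⁻¹ * (h⁻¹ * g * h⁻¹⁻¹) * k⁻¹⁻¹ by group]

theorem wact_one : ∀ w ∈ [[0], [1]], wact g2 w 1 = 1 := by decide +kernel

theorem wact_fix1 : ∀ w : List ℕ, (∀ i ∈ w, i < g2.length) → wact g2 w 1 = 1 := by
  intro w hw
  induction w with
  | nil => rfl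
  | cons i w ih =>
    have hi : i < 2 := hw i (List.mem_cons_self ..)
    show rf _ (rf _ (wact g2 w 1)) = 1
    rw [ih fun j hj => hw j (List.mem_cons_of_mem _ hj)]
    have := wact_one [i] (by interval_cases i <;> simp)
    exact this

/-- Words in the stabiliser. -/
theorem exists_stab (w : List ℕ) (hw : ∀ i ∈ w, i < g2.length) :
    ∃ h ∈ Om, cd h 1 = 1 ∧ ∀ x < 64, cd h x = wact g2 w x := by
  obtain ⟨h, hh, he⟩ := exists_word2 w hw
  exact ⟨h, hh, by rw [he 1 (by norm_num), wact_fix1 w hw], he⟩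

theorem inv_words : ∀ w ∈ hs, ∀ x < 64, wact g2 w (wact (g2.map Prod.swap) w.reverse x) = x ∧
    wact (g2.map Prod.swap) w.reverse x < 64 := by decide +kernel

theorem inv_perp : ∀ w ∈ hs, ∀ x ∈ W, pB 1 (wact (g2.map Prod.swap) w.reverse x) = false := by decide +kernel

theorem hs_ok : ∀ w ∈ hs, ∀ i ∈ w, i < g2.length := by decide +kernel

/-- A nontrivial involution on the section has a conjugate not commuting with it. -/
theorem exists_noncomm (h1 : cd g 1 = 1) (hinv : ∀ w ∈ W, sa g (sa g w) = w) (hne : ∃ w ∈ W, sa g w ≠ w) :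
    ∃ h ∈ Om, cd h 1 = 1 ∧ g * (h * g * h⁻¹) ≠ h * g * h⁻¹ * g := by
  have h := (checks h1).2.1
  have hf : ∀ x < 64, fw (cd g 2) (cd g 4) (cd g 8) (cd g 16) (cd g 32) x = sa g x := fun x hx => by
    rw [fw, ← cd_ap h1 hx]; rfl
  have hk : ∀ k ∈ [2, 8, 16, 32], k ∈ W ∧ k < 64 := by decide
  have hb : ∀ k ∈ [2, 8, 16, 32], fw (cd g 2) (cd g 4) (cd g 8) (cd g 16) (cd g 32) (nr (cd g k)) = k := fun k hk' => by
    rw [hf _ (show nr (cd g k) < 64 from (W_lt _ (sa_mem g k)).1)]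
    exact hinv k (hk k hk').1
  have hb' := hb
  simp only [List.forall_mem_cons, List.not_mem_nil, IsEmpty.forall_iff, implies_true, and_true] at hb'
  obtain ⟨b2, b8, b16, b32⟩ := hb'
  simp only [normChk, b2, b8, b16, b32, beq_self_eq_true, Bool.not_true, Bool.false_or, Bool.or_eq_true,
    Bool.and_eq_true, beq_iff_eq, List.any_eq_true, bne_iff_ne, ne_eq] at h
  rcases h with ⟨⟨⟨a2, a8⟩, a16⟩, a32⟩ | ⟨w, hw, x, hx, hne'⟩
  · exfalso
    obtain ⟨v, hv, hvne⟩ := hne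
    have hspan : ∀ v ∈ W, ap 2 4 8 16 32 v = v := fun v hv => code_bits v (W_lt v hv).1
    refine hvne ?_
    have h0 : v.testBit 0 = false := (by decide +kernel : ∀ v ∈ W, v.testBit 0 = false) v hv
    have h4 : v.testBit 2 = false := (by decide +kernel : ∀ v ∈ W, v.testBit 2 = false) v hv
    have hc : ∀ (b : Bool) (y : ℕ), sa g (bif b then y else 0) = bif b then sa g y else 0 := fun b y => by
      cases b <;> simp [sa, cd_zero, nr]
    conv_lhs => rw [← hspan v hv]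
    simp only [ap, h0, h4, cond_false, sa_xor, hc, show sa g 2 = 2 from a2, show sa g 8 = 8 from a8,
      show sa g 16 = 16 from a16, show sa g 32 = 32 from a32, show sa g 0 = 0 by simp [sa, cd_zero, nr]]
    conv_rhs => rw [← hspan v hv]
    simp only [ap, h0, h4, cond_false]
  · obtain ⟨h', hh', hh1, he⟩ := exists_stab w (hs_ok w hw)
    refine ⟨h', hh', hh1, fun e => hne' ?_⟩
    obtain ⟨hxW, hxl⟩ := hk x hx
    have hi : ∀ y < 64, cd h'⁻¹ y = wact (g2.map Prod.swap) w.reverse y := fun y hy => by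
      conv_lhs => rw [← (inv_words w hw y hy).1, ← he _ (inv_words w hw y hy).2, cd_inv h' (inv_words w hw y hy).2]
    have h1i : cd h'⁻¹ 1 = 1 := by
      conv_lhs => rw [← hh1, cd_inv h' (by norm_num)]
    have hcj : ∀ y ∈ W, fc (cd g 2) (cd g 4) (cd g 8) (cd g 16) (cd g 32) w y = sa (h' * g * h'⁻¹) y := fun y hy => by
      obtain ⟨hyl, hyp, -⟩ := W_lt y hy
      have hsa : nr (wact (g2.map Prod.swap) w.reverse y) = sa h'⁻¹ y := by rw [sa, hi y hyl]
      rw [fc, hsa, hf _ (W_lt _ (sa_mem _ _)).1, ← he _ (W_lt _ (sa_mem _ _)).1, mul_assoc,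
        sa_mul hh1 (by rw [cd_mul, h1i, h1]) hyl hyp, sa_mul h1 h1i hyl hyp]
      rfl
    have hc1 : cd (h' * g * h'⁻¹) 1 = 1 := by rw [cd_mul, cd_mul, h1i, h1, hh1]
    rw [hcj x hxW, hf _ (W_lt _ (sa_mem _ _)).1, hf _ hxl, hcj _ (sa_mem _ _), ← sa_mul h1 hc1 hxl (W_lt x hxW).2.1,
      ← sa_mul hc1 h1 hxl (W_lt x hxW).2.1, e]

theorem words_ok : (∀ t ∈ w5, ∀ i ∈ t.2, i < g2.length) ∧ (∀ t ∈ w10, ∀ i ∈ t.2, i < g2.length) ∧
    (∀ t ∈ w60, ∀ i ∈ t.2, i < g2.length) := by decide +kernel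

/-- Transitivity on the singular vectors of the section. -/
theorem trans_w5 {v : ℕ} (hv : v ∈ W) (hq : qB v = false) (h0 : v ≠ 0) : ∃ h ∈ Om, cd h 1 = 1 ∧ sa h 2 = v := by
  have h := List.all_eq_true.mp trans5 v hv
  simp only [hq, h0, beq_iff_eq, Bool.false_or, Bool.or_eq_true, false_or, List.any_eq_true, Bool.and_eq_true] at h
  obtain ⟨t, ht, -, h2⟩ := h
  obtain ⟨g, hg, h1, he⟩ := exists_stab t.2 (words_ok.1 t ht)
  exact ⟨g, hg, h1, by rw [sa, he 2 (by norm_num), h2]⟩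

/-- Transitivity on the nonsingular vectors of the section. -/
theorem trans_w10 {v : ℕ} (hv : v ∈ W) (hq : qB v = true) : ∃ h ∈ Om, cd h 1 = 1 ∧ sa h 10 = v := by
  have h := List.all_eq_true.mp trans10 v hv
  simp only [hq, Bool.not_true, Bool.false_or, List.any_eq_true, Bool.and_eq_true, beq_iff_eq] at h
  obtain ⟨t, ht, -, h2⟩ := h
  obtain ⟨g, hg, h1, he⟩ := exists_stab t.2 (words_ok.2.1 t ht)
  exact ⟨g, hg, h1, by rw [sa, he 10 (by norm_num), h2]⟩

/-- Transitivity on the anisotropic pairs of the section. -/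
theorem trans_w60 {a b : ℕ} (ha : a ∈ W) (hb : b ∈ W) (hqa : qB a = true) (hqb : qB b = true) (hp : pB a b = true) :
    ∃ h ∈ Om, cd h 1 = 1 ∧ sa h 10 = a ∧ sa h 18 = b := by
  have h0 := List.all_eq_true.mp trans60 a ha
  simp only [hqa, Bool.not_true, Bool.false_or, List.all_eq_true] at h0
  have h := h0 b hb
  simp only [hqb, hp, Bool.not_true, Bool.false_or, List.any_eq_true, Bool.and_eq_true, beq_iff_eq, Prod.mk.injEq] at h
  obtain ⟨t, ht, -, h2, h3⟩ := h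
  obtain ⟨g, hg, h1, he⟩ := exists_stab t.2 (words_ok.2.2 t ht)
  exact ⟨g, hg, h1, by rw [sa, he 10 (by norm_num), h2], by rw [sa, he 18 (by norm_num), h3]⟩

/-- Every vector of the section is a sum of two vectors of one orbit or zero. -/
theorem span_orbit (q : Bool) : ∀ v ∈ W, ∃ a ∈ W, ∃ b ∈ W, (a = 0 ∨ qB a = q) ∧ (b = 0 ∨ qB b = q) ∧ a ^^^ b = v := by
  revert q
  decide +kernel

theorem fixed_codes : ∀ c ∈ W, (∀ w ∈ [[1], [0, 0, 1, 0]], ∀ x ∈ W, pB c (nr (wact g2 w x)) = pB c x) → c = 0 ∨ c = 2 := by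
  intro c hc h
  have := List.all_eq_true.mp fixed_functional.1 c hc
  simp only [Bool.or_eq_true, beq_iff_eq] at this
  rcases this with (e | e) | e
  · rw [Bool.not_eq_true'] at e
    refine absurd ?_ (Bool.eq_false_iff.mp e)
    exact List.all_eq_true.mpr fun w hw => List.all_eq_true.mpr fun x hx => beq_iff_eq.mpr (h w hw x hx)
  · exact Or.inl e
  · exact Or.inr e

theorem functional_code : ∀ a b c d : Bool, ∃ k ∈ W, pB k 2 = a ∧ pB k 8 = b ∧ pB k 16 = c ∧ pB k 32 = d := by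
  decide +kernel

/-- An additive functional on the section fixed by the stabiliser of a singular vector is a multiple of the pairing
with it. -/
theorem functional_eq (φ : ℕ → Bool) (hadd : ∀ a ∈ W, ∀ b ∈ W, φ (a ^^^ b) = (φ a ^^ φ b))
    (hfix : ∀ h ∈ Om, cd h 1 = 1 → sa h 2 = 2 → ∀ x ∈ W, φ (sa h x) = φ x) :
    (∀ x ∈ W, φ x = false) ∨ ∀ x ∈ W, φ x = pB 2 x := by
  obtain ⟨k, hk, e2, e8, e16, e32⟩ := functional_code (φ 2) (φ 8) (φ 16) (φ 32)
  have hpadd : ∀ k ∈ W, ∀ a ∈ W, ∀ b ∈ W, pB k (a ^^^ b) = (pB k a ^^ pB k b) := by decide +kernel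
  have hphi : ∀ x ∈ W, φ x = pB k x := by
    have h00 : φ 0 = pB k 0 := by
      have := hadd 0 (by decide) 0 (by decide)
      rw [Nat.xor_self] at this
      rw [(by decide +kernel : ∀ k ∈ W, pB k 0 = false) k hk]
      revert this; cases φ 0 <;> decide
    have step : ∀ a ∈ W, ∀ b ∈ W, φ a = pB k a → φ b = pB k b → φ (a ^^^ b) = pB k (a ^^^ b) := fun a ha b hb u v => by
      rw [hadd a ha b hb, hpadd k hk a ha b hb, u, v]
    have b2 : ∀ i ∈ [0, 2], φ i = pB k i := by simp [h00, e2]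
    have hpart : ∀ i ∈ [0, 2], ∀ j ∈ [0, 8], φ (i ^^^ j) = pB k (i ^^^ j) := fun i hi j hj =>
      step i ((by decide : ∀ i ∈ [0, 2], i ∈ W) i hi) j ((by decide : ∀ i ∈ [0, 8], i ∈ W) j hj) (b2 i hi)
        (by revert j; simp [h00, e8])
    have hpart2 : ∀ i ∈ [0, 16], ∀ j ∈ [0, 32], φ (i ^^^ j) = pB k (i ^^^ j) := fun i hi j hj =>
      step i ((by decide : ∀ i ∈ [0, 16], i ∈ W) i hi) j ((by decide : ∀ i ∈ [0, 32], i ∈ W) j hj)
        (by revert i; simp [h00, e16]) (by revert j; simp [h00, e32])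
    intro x hx
    obtain ⟨i, hi, j, hj, a, ha, b, hb, rfl⟩ := (by decide +kernel : ∀ x ∈ W, ∃ i ∈ [0, 2], ∃ j ∈ [0, 8],
      ∃ a ∈ [0, 16], ∃ b ∈ [0, 32], (i ^^^ j) ^^^ (a ^^^ b) = x) x hx
    exact step _ ((by decide : ∀ i ∈ [0, 2], ∀ j ∈ [0, 8], i ^^^ j ∈ W) i hi j hj) _
      ((by decide : ∀ i ∈ [0, 16], ∀ j ∈ [0, 32], i ^^^ j ∈ W) a ha b hb) (hpart i hi j hj) (hpart2 a ha b hb)
  have hkk := fixed_codes k hk fun w hw x hx => by
    obtain ⟨h, hh, h1, he⟩ := exists_stab w ((by decide : ∀ w ∈ [[1], [0, 0, 1, 0]], ∀ i ∈ w, i < g2.length) w hw)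
    have hw2 : nr (wact g2 w 2) = 2 := beq_iff_eq.mp (List.all_eq_true.mp fixed_functional.2 w hw)
    have := hfix h hh h1 (by rw [sa, he 2 (by norm_num), hw2]) x hx
    rw [sa, he x (W_lt x hx).1, hphi _ (nr_mem _ (by rw [← he x (W_lt x hx).1]; exact cd_lt _ _)), hphi x hx] at this
    exact this
  rcases hkk with rfl | rfl
  · exact Or.inl fun x hx => by rw [hphi x hx]; exact (by decide +kernel : ∀ x ∈ W, pB 0 x = false) x hx
  · exact Or.inr hphi

end Cfsg.Lib.SuzukiType
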