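import Cfsg.Agent.SuzukiType.Point
import Cfsg.Agent.LargeFischer.Setting
import Cfsg.Agent.Leech.Co0Section.OmegaFacts
import Cfsg.Agent.Classical.Orth.Orders

/-!
Coordinates in a group with an involution centralizer of Suzuki type.
-/

set_option autoImplicit false
set_option maxRecDepth 100000
set_option maxHeartbeats 1000000
set_option linter.unusedSectionVars false
set_option linter.style.haveILetI false

namespace Cfsg.Lib.SuzukiType

open Subgroup Matrix QuadraticMap Cfsg.Lib.Classical.OrthH1 Cfsg.Lib.SuzukiType.Code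
open Cfsg.Lib.LargeExtra (X2 fitting_setting mem_map_conj mem_conj_of_mem)
open Cfsg.Lib.LargeExtra.OutExtra
open scoped commutatorElement

universe u

variable {G : Type u} [Group G] [Finite G]

/-- The data of Suzuki type. -/
structure Ctx (z : G) where
  Q : Subgroup G
  hz : orderOf z = 2
  X : X2 Q z
  cQ : centralizer (Q : Set G) ≤ Q
  nQ : centralizer ({z} : Set G) ≤ normalizer (Q : Set G)
  card : Nat.card Q = 128
  μ : ↥(centralizer ({z} : Set G)) →* O6
  ker : ∀ c : ↥(centralizer ({z} : Set G)), μ c = 1 ↔ (c : G) ∈ Q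
  rng : μ.range = Om
  π : G → ℕ
  π_lt : ∀ q, π q < 64
  π_mul : ∀ a ∈ Q, ∀ b ∈ Q, π (a * b) = π a ^^^ π b
  π_surj : ∀ x < 64, ∃ q ∈ Q, π q = x
  π_zero : ∀ q ∈ Q, π q = 0 ↔ q = 1 ∨ q = z
  π_sq : ∀ q ∈ Q, q * q = 1 ↔ qB (π q) = false
  π_comm : ∀ a ∈ Q, ∀ b ∈ Q, Commute a b ↔ pB (π a) (π b) = false
  π_act : ∀ c : ↥(centralizer ({z} : Set G)), ∀ q ∈ Q, π ((c : G) * q * (c : G)⁻¹) = cd (μ c) (π q)
  nwc : ∃ g : G, g * z * g⁻¹ ∈ Q ∧ g * z * g⁻¹ ≠ z

theorem exists_ctx_map {z : G} (hz : orderOf z = 2) (Q : Subgroup (centralizer ({z} : Set G))) [Q.Normal]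
    (hF : Cfsg.generalizedFittingSubgroup (centralizer ({z} : Set G)) = Q) (hQ : Cfsg.IsExtraspecial 2 Q)
    (hcard : Nat.card Q = 2 ^ 7)
    (e : (centralizer ({z} : Set G)) ⧸ Q ≃* Cfsg.Omega (ZMod 2) (Cfsg.quadFormMinus 2 (ZMod 2) 1 1))
    (hnwc : ∃ g : G, (∃ hq : g * z * g⁻¹ ∈ centralizer ({z} : Set G),
      (⟨g * z * g⁻¹, hq⟩ : centralizer ({z} : Set G)) ∈ Q) ∧ g * z * g⁻¹ ≠ z) :
    ∃ c : Ctx z, c.Q = Q.map (centralizer ({z} : Set G)).subtype := by
  classical
  set Qg := Q.map (centralizer ({z} : Set G)).subtype with hQg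
  let eQg : ↥Q ≃* ↥Qg := Q.equivMapOfInjective (centralizer ({z} : Set G)).subtype (centralizer ({z} : Set G)).subtype_injective
  have hEg : Cfsg.IsExtraspecial 2 ↥Qg := Cfsg.Lib.LargeFischer.isExtraspecial_congr eQg hQ
  obtain ⟨hX, hCQ, hCN, -⟩ := fitting_setting hz (Q := Qg) (map_subtype_le Q) (by rw [hF]) hEg
  have hCQ' : centralizer (Q : Set (centralizer ({z} : Set G))) ≤ Q := hF ▸ Cfsg.Lib.Components.centralizer_genFitting_le (G := ↥(centralizer ({z} : Set G)))
  obtain ⟨hΩc, hΩs⟩ := Cfsg.Lib.Leech.Co0Section.omega_six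
  haveI := hΩs
  haveI : IsSimpleGroup (↥(centralizer ({z} : Set G)) ⧸ Q) := e.isSimpleGroup
  have hQc : Nat.card (↥(centralizer ({z} : Set G)) ⧸ Q) = 25920 := (Nat.card_congr e.toEquiv).trans hΩc
  obtain ⟨zq, hzq⟩ := exists_coord (n := 3) hQ hcard
  rcases hzq with ⟨⟨D⟩⟩ | ⟨-, ⟨D⟩⟩
  · exfalso
    let φ : ↥(centralizer ({z} : Set G)) →* ↥(Cfsg.isometryGroup (ZMod 2) (⇑(Cfsg.Lib.Classical.HypQuad.plusForm 3 (ZMod 2)))) :=
      D.toIso.comp MulAut.conjNormal
    have hk : φ.ker = Q := by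
      rw [← Cfsg.Lib.LargeFischer.rep_ker Q D hCQ']
      ext c
      simp only [MonoidHom.mem_ker]
      constructor
      · intro h
        refine Equiv.ext fun v => ?_
        obtain ⟨x, rfl⟩ := D.surj v
        rw [Cfsg.Lib.LargeFischer.rep_apply, ← D.mulVec_eq]
        change ((φ c : ↥(Cfsg.isometryGroup (ZMod 2) (⇑(Cfsg.Lib.Classical.HypQuad.plusForm 3 (ZMod 2))))) :
          GL _ (ZMod 2)).val *ᵥ D.π x = _
        rw [h]
        simp
      · intro h
        refine Cfsg.Lib.Classical.Refl.ext_mulVec _ fun v => ?_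
        obtain ⟨x, rfl⟩ := D.surj v
        refine (D.mulVec_eq (MulAut.conjNormal c) x).trans ?_
        rw [← Cfsg.Lib.LargeFischer.rep_apply, h]
        exact (Matrix.one_mulVec _).symm
    have h1 := Subgroup.card_subgroup_dvd_card φ.range
    rw [← Nat.card_congr (QuotientGroup.quotientKerEquivRange φ).toEquiv,
      Nat.card_congr (QuotientGroup.quotientMulEquivOfEq hk).toEquiv, hQc,
      show (⇑(Cfsg.Lib.Classical.HypQuad.plusForm 3 (ZMod 2))) = Cfsg.quadFormPlus 3 (ZMod 2) from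
        funext (Cfsg.Lib.Classical.HypQuad.plusForm_apply 3), Cfsg.Lib.Classical.OrthCard.card_plus] at h1
    revert h1
    simp [Cfsg.Lib.Classical.OrthCard.prodQ, Finset.prod_range_succ]
  · let φ : ↥(centralizer ({z} : Set G)) →* O6 := D.toIso.comp MulAut.conjNormal
    have hφ : ∀ (c : ↥(centralizer ({z} : Set G))) (x : ↥Q), Cfsg.Lib.Classical.Refl.mat qf (φ c) *ᵥ D.π x = D.π (MulAut.conjNormal c x) :=
      fun c x => D.mulVec_eq (MulAut.conjNormal c) x
    have hk : φ.ker = Q := by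
      rw [← Cfsg.Lib.LargeFischer.rep_ker Q D hCQ']
      ext c
      simp only [MonoidHom.mem_ker]
      constructor
      · intro h
        refine Equiv.ext fun v => ?_
        obtain ⟨x, rfl⟩ := D.surj v
        rw [Cfsg.Lib.LargeFischer.rep_apply, ← hφ, h]
        exact Matrix.one_mulVec _
      · intro h
        refine Cfsg.Lib.Classical.Refl.ext_mulVec _ fun v => ?_
        obtain ⟨x, rfl⟩ := D.surj v
        refine (hφ c x).trans ?_
        rw [← Cfsg.Lib.LargeFischer.rep_apply, h]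
        exact (Matrix.one_mulVec _).symm
    let er : ↥(centralizer ({z} : Set G)) ⧸ Q ≃* ↥φ.range :=
      (QuotientGroup.quotientMulEquivOfEq hk.symm).trans (QuotientGroup.quotientKerEquivRange φ)
    haveI : IsSimpleGroup ↥φ.range := er.symm.isSimpleGroup
    have hrc : Nat.card ↥φ.range = 25920 := by rw [← Nat.card_congr er.toEquiv, hQc]
    have hrng : φ.range = Om := by
      have hp : commutator ↥φ.range = ⊤ := (IsSimpleGroup.eq_bot_or_eq_top_of_normal _ inferInstance).resolve_left fun h => by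
        have hnc : IsMulCommutative ↥φ.range := ⟨⟨fun a b => commutatorElement_eq_one_iff_mul_comm.mp
          (Subgroup.mem_bot.mp (h ▸ Subgroup.commutator_mem_commutator (mem_top a) (mem_top b)))⟩⟩
        haveI := hnc
        have hpr := (Group.is_simple_iff_prime_card (α := ↥φ.range)).mp inferInstance
        rw [hrc] at hpr
        norm_num at hpr
      have hle : φ.range ≤ Om := by
        have := congrArg (Subgroup.map φ.range.subtype) hp
        rw [_root_.commutator_def, Subgroup.map_commutator, ← MonoidHom.range_eq_map, Subgroup.range_subtype] at this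
        rw [← this]
        exact Subgroup.commutator_mono le_top le_top
      refine Subgroup.eq_of_le_of_card_ge hle ?_
      rw [hrc]
      refine le_of_eq ?_
      have hcoe : ∀ (q' : ((Fin 2 ⊕ Fin 2) ⊕ Fin 2 → ZMod 2) → ZMod 2), q' = ⇑qf →
          Nat.card ↥(Cfsg.Omega (ZMod 2) q') = Nat.card ↥Om := fun q' e => by subst e; rfl
      rw [← hcoe _ (Cfsg.Lib.Classical.Refl.minusForm_coe 2 1 1).symm]
      exact hΩc
    let πf : G → ℕ := fun q => if h : q ∈ Qg then en (D.π (eQg.symm ⟨q, h⟩)) else 0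
    have hπ : ∀ x : ↥Q, πf ((x : ↥(centralizer ({z} : Set G))) : G) = en (D.π x) := fun x => by
      have hm : ((x : ↥(centralizer ({z} : Set G))) : G) ∈ Qg := ⟨_, x.2, rfl⟩
      show (if h : _ then _ else _) = _
      rw [dif_pos hm]
      congr 2
      rw [MulEquiv.symm_apply_eq]
      exact Subtype.ext rfl
    have hmem : ∀ q ∈ Qg, ∃ x : ↥Q, q = ((x : ↥(centralizer ({z} : Set G))) : G) := fun q ⟨x, hx, e⟩ => ⟨⟨x, hx⟩, e.symm⟩
    have hzv : ((zq : ↥(centralizer ({z} : Set G))) : G) = z := by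
      refine (hX.cen _ ⟨_, zq.2, rfl⟩ fun a ha => ?_).resolve_left fun e => D.es.z_ne_one (Subtype.ext (Subtype.ext e))
      obtain ⟨a', rfl⟩ := hmem a ha
      exact congrArg (fun x : ↥Q => ((x : ↥(centralizer ({z} : Set G))) : G)) (mem_center_iff.mp (D.es.cen.symm ▸ mem_zpowers zq : zq ∈ center ↥Q) a')
    have hpol : ∀ a b : ↥Q, Commute a b ↔ pB (en (D.π a)) (en (D.π b)) = false := fun a b => by
      have h := D.polar_eq a b
      rw [polar_en] at h
      constructor
      · intro hc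
        rw [Cfsg.Lib.ExtraOut.cm_of_commute hc.symm] at h
        exact ofBit_inj _ _ h
      · intro hp
        rw [hp] at h
        exact (commute_of_cm h.symm).symm
    obtain ⟨g, ⟨hq, hgQ⟩, hgz⟩ := hnwc
    exact ⟨{
      Q := Qg, hz := hz, X := hX, cQ := hCQ, nQ := hCN, card := by rw [← Nat.card_congr eQg.toEquiv, hcard]; norm_num
      μ := φ
      ker := fun c => by
        rw [← MonoidHom.mem_ker, hk]
        exact ⟨fun h => ⟨c, h, rfl⟩, fun ⟨x, hx, e⟩ => Subtype.ext e ▸ hx⟩
      rng := hrng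
      π := πf
      π_lt := fun q => by
        show (if h : _ then _ else _) < 64
        split
        · exact en_lt _
        · norm_num
      π_mul := fun a ha b hb => by
        obtain ⟨x, rfl⟩ := hmem a ha
        obtain ⟨y, rfl⟩ := hmem b hb
        rw [show ((x : ↥(centralizer ({z} : Set G))) : G) * ((y : ↥(centralizer ({z} : Set G))) : G) = (((x * y : ↥Q) : ↥(centralizer ({z} : Set G))) : G) from rfl, hπ, hπ, hπ, D.mul, en_add]
      π_surj := fun x hx => by
        obtain ⟨q, hq'⟩ := D.surj (Cfsg.Lib.Classical.OrthH1.dec e6 x)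
        exact ⟨_, ⟨_, q.2, rfl⟩, by rw [Subgroup.coe_subtype, hπ, hq', en_dec hx]⟩
      π_zero := fun q hq' => by
        obtain ⟨x, rfl⟩ := hmem q hq'
        rw [hπ, en_eq_zero, D.ker]
        constructor
        · intro h
          rcases center_cases D.es h with r | r
          · exact Or.inl (by rw [r]; rfl)
          · exact Or.inr (by rw [r]; exact hzv)
        · rintro (r | r)
          · rw [show x = 1 from Subtype.ext (Subtype.ext r)]; exact one_mem _
          · rw [show x = zq from Subtype.ext (Subtype.ext (r.trans hzv.symm)), D.es.cen]; exact mem_zpowers _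
      π_sq := fun q hq' => by
        obtain ⟨x, rfl⟩ := hmem q hq'
        have h := D.hT x
        rw [q_en] at h
        rw [hπ, show ((x : ↥(centralizer ({z} : Set G))) : G) * ((x : ↥(centralizer ({z} : Set G))) : G) = (((x * x : ↥Q) : ↥(centralizer ({z} : Set G))) : G) from rfl]
        by_cases hx : x * x = 1
        · rw [Cfsg.Lib.LargeExtra.OutExtra.sq, if_pos hx] at h
          exact ⟨fun _ => ofBit_inj _ false h, fun _ => by rw [hx]; rfl⟩
        · rw [Cfsg.Lib.LargeExtra.OutExtra.sq, if_neg hx] at h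
          rw [ofBit_inj _ true h]
          exact ⟨fun e => absurd (Subtype.ext (Subtype.ext e)) hx, fun e => absurd e (by decide)⟩
      π_comm := fun a ha b hb => by
        obtain ⟨x, rfl⟩ := hmem a ha
        obtain ⟨y, rfl⟩ := hmem b hb
        rw [hπ, hπ, ← hpol]
        exact ⟨fun h => Subtype.ext (Subtype.ext h.eq), fun h => congrArg (fun w : ↥Q => ((w : ↥(centralizer ({z} : Set G))) : G)) h.eq⟩
      π_act := fun c q hq' => by
        obtain ⟨x, rfl⟩ := hmem q hq'
        rw [show (c : G) * ((x : ↥(centralizer ({z} : Set G))) : G) * (c : G)⁻¹ = (((MulAut.conjNormal c x : ↥Q) : ↥(centralizer ({z} : Set G))) : G) by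
          rw [MulAut.conjNormal_apply]; rfl, hπ, hπ, cd_en, hφ]
      nwc := ⟨g, ⟨_, hgQ, rfl⟩, hgz⟩ }, rfl⟩
/-- The coordinates exist. -/
theorem exists_ctx {z : G} (hz : orderOf z = 2) (Q : Subgroup (centralizer ({z} : Set G))) [Q.Normal]
    (hF : Cfsg.generalizedFittingSubgroup (centralizer ({z} : Set G)) = Q) (hQ : Cfsg.IsExtraspecial 2 Q)
    (hcard : Nat.card Q = 2 ^ 7)
    (e : (centralizer ({z} : Set G)) ⧸ Q ≃* Cfsg.Omega (ZMod 2) (Cfsg.quadFormMinus 2 (ZMod 2) 1 1))
    (hnwc : ∃ g : G, (∃ hq : g * z * g⁻¹ ∈ centralizer ({z} : Set G),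
      (⟨g * z * g⁻¹, hq⟩ : centralizer ({z} : Set G)) ∈ Q) ∧ g * z * g⁻¹ ≠ z) : Nonempty (Ctx z) :=
  ⟨(exists_ctx_map hz Q hF hQ hcard e hnwc).choose⟩

end Cfsg.Lib.SuzukiType
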