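import Cfsg.Agent.SuzukiType.Pair

/-!
The two classes of involutions in a group of Suzuki type.
-/

set_option autoImplicit false
set_option maxRecDepth 100000
set_option maxHeartbeats 1000000
set_option linter.unusedSectionVars false
set_option linter.style.haveILetI false

namespace Cfsg.Lib.SuzukiType

open Subgroup Cfsg.Lib.SuzukiType.Code
open Cfsg.Lib.LargeExtra (X2 mem_map_conj mem_conj_of_mem mem_zpowers_two)
open scoped commutatorElement

universe u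

variable {G : Type u} [Group G] [Finite G] {z : G}

theorem sing_pair : ∀ a ∈ W, ∀ b ∈ W, b ≠ 0 → qB a = pB a b → qB b = pB a b →
    a = 0 ∨ a = b ∧ qB b = false ∨ qB a = true ∧ qB b = true ∧ pB a b = true := by decide +kernel

theorem pair_partner : ∀ a ∈ W, ∀ b ∈ W, qB a = true → qB b = true → pB a b = true →
    ∀ u v : Bool, ∃ d ∈ W, pB d a = u ∧ pB d b = v := by decide +kernel

theorem perp_partner : ∀ a ∈ W, ∀ b ∈ W, pB a b = true → qB a = true → qB b = true → ∀ d ∈ W,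
    pB d a = false → pB d b = false → d ≠ 0 → ∃ d' ∈ W, pB d' a = false ∧ pB d' b = false ∧ pB d d' = true := by
  decide +kernel

theorem perp_exists : ∀ a ∈ W, ∀ b ∈ W, ∃ d ∈ W, d ≠ 0 ∧ pB d a = false ∧ pB d b = false := by decide +kernel

theorem perp_span : ∀ x ∈ W, ∃ i ∈ [0, 10, 18, 10 ^^^ 18], ∃ d ∈ W, pB d 10 = false ∧ pB d 18 = false ∧ i ^^^ d = x := by
  decide +kernel

theorem perp_four : ∀ w ∈ W, (∀ d ∈ W, pB d 10 = false → pB d 18 = false → pB d w = false) →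
    w ∈ [0, 10, 18, 10 ^^^ 18] := by decide +kernel

theorem move_high : ∀ b ∈ W, ∃ y < 64, nr (y ^^^ rho b y) = b ∧ pB 1 (y ^^^ rho b y) = false := by decide +kernel

theorem shift_nr : ∀ b ∈ W, ∀ y < 64, pB 1 y = true → nr (y ^^^ rho b y) = b := by decide +kernel

namespace Pt

variable (p : Pt z)

/-- The `z`-component of an element of the four-group. -/
noncomputable def ze (e : G) : Bool := @decide (e = z ∨ e = z * p.s) (Classical.propDecidable _)

/-- The `s`-component of an element of the four-group. -/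
noncomputable def se (e : G) : Bool := @decide (e = p.s ∨ e = z * p.s) (Classical.propDecidable _)

theorem zse : (p.ze 1 = false ∧ p.se 1 = false) ∧ (p.ze z = true ∧ p.se z = false) ∧
    (p.ze p.s = false ∧ p.se p.s = true) ∧ (p.ze (z * p.s) = true ∧ p.se (z * p.s) = true) := by
  obtain ⟨a1, a2, a3⟩ := p.zs_ne
  obtain ⟨s1, s2⟩ := p.s_ne
  simp [ze, se, p.X.ne, s1, s2, a1, a2, a3, Ne.symm p.X.ne, Ne.symm s1, Ne.symm s2, Ne.symm a1, Ne.symm a2, Ne.symm a3]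

theorem mul_zse {a b : G} (ha : p.InE a) (hb : p.InE b) :
    p.ze (a * b) = (p.ze a ^^ p.ze b) ∧ p.se (a * b) = (p.se a ^^ p.se b) := by
  obtain ⟨⟨z1, t1⟩, ⟨z2, t2⟩, ⟨z3, t3⟩, ⟨z4, t4⟩⟩ := p.zse
  have e1 : p.s * z = z * p.s := p.sz.eq
  have e2 : z * (z * p.s) = p.s := by rw [← mul_assoc, p.X.zz, one_mul]
  have e3 : z * p.s * z = p.s := by rw [mul_assoc, e1, e2]
  have e4 : p.s * (z * p.s) = z := by rw [← mul_assoc, e1, mul_assoc, p.ss, mul_one]
  have e5 : z * p.s * p.s = z := by rw [mul_assoc, p.ss, mul_one]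
  have e6 : z * p.s * (z * p.s) = 1 := by rw [← mul_assoc, e3, p.ss]
  rcases ha with rfl | rfl | rfl | rfl <;> rcases hb with rfl | rfl | rfl | rfl <;>
    simp [z1, z2, z3, z4, t1, t2, t3, t4, e1, e2, e3, e4, e5, e6, p.X.zz, p.ss]

theorem eq_of_zse {a b : G} (ha : p.InE a) (hb : p.InE b) (h1 : p.ze a = p.ze b) (h2 : p.se a = p.se b) : a = b := by
  obtain ⟨⟨z1, t1⟩, ⟨z2, t2⟩, ⟨z3, t3⟩, ⟨z4, t4⟩⟩ := p.zse
  rcases ha with rfl | rfl | rfl | rfl <;> rcases hb with rfl | rfl | rfl | rfl <;>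
    simp_all

theorem se_code {e : G} (he : p.InE e) : p.π e = bif p.se e then 1 else 0 := by
  obtain ⟨⟨-, t1⟩, ⟨-, t2⟩, ⟨-, t3⟩, ⟨-, t4⟩⟩ := p.zse
  rcases he with rfl | rfl | rfl | rfl
  · rw [t1, p.toCtx.pi_one]; rfl
  · rw [t2, p.toCtx.pi_z]; rfl
  · rw [t3, p.πs]; rfl
  · rw [t4, p.π_mul z p.X.mem p.s p.hs, p.toCtx.pi_z, p.πs]; rfl

/-- The commutator of elements of the two parts. -/
def cab (x r : G) : G := x * r * x⁻¹ * r⁻¹

theorem cab_E {x r : G} (hx : p.A x) (hr : p.R r) : p.InE (cab x r) := by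
  refine p.R_cap (p.R_mul (p.R_norm (p.A_T hx) hr) (p.R_inv hr)) ?_
  rw [cab, show x * r * x⁻¹ * r⁻¹ = x * (r * x⁻¹ * r⁻¹) by group]
  exact mul_mem hx.1 (p.toCtx.norm hr.2 (inv_mem hx.1))

theorem cab_se {x r : G} (hx : p.A x) (hr : p.R r) : p.se (cab x r) = pB (p.α x) (p.β r) := by
  have h1 := p.se_code (p.cab_E hx hr)
  have e : p.π (cab x r) = rho (p.β r) (p.π x) ^^^ p.π x := by
    rw [cab, show x * r * x⁻¹ * r⁻¹ = x * (r * x⁻¹ * r⁻¹) by group,
      p.π_mul x hx.1 _ (p.toCtx.norm hr.2 (inv_mem hx.1)), p.toCtx.act hr.2 (inv_mem hx.1), p.toCtx.pi_inv hx.1,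
      p.m_rho hr _ (p.π_lt x), Nat.xor_comm]
  rw [e, rho_shift _ (p.β_mem r) _ (p.π_lt x) (p.A_perp hx)] at h1
  revert h1
  show (bif pB (p.α x) (p.β r) then 1 else 0) = (bif p.se (cab x r) then 1 else 0) → _
  cases pB (p.α x) (p.β r) <;> cases p.se (cab x r) <;> simp

theorem cab_congr {x x' r r' : G} (hx : p.A x) (hx' : p.A x') (hr : p.R r) (hr' : p.R r') (h : p.α x = p.α x')
    (h' : p.β r = p.β r') : cab x r = cab x' r' := by
  have he : p.InE (x⁻¹ * x') := p.α_zero (p.A_mul (p.A_inv hx) hx') (by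
    rw [p.α_mul (p.A_inv hx) hx', p.α_inv hx, h, Nat.xor_self])
  have hf := p.R_fibre hr hr' h'
  set e := x⁻¹ * x' with hedef
  set f := r⁻¹ * r' with hfdef
  have ex : x' = x * e := by rw [hedef]; group
  have er : r' = r * f := by rw [hfdef]; group
  have c1 := p.E_central he (p.R_T (p.R_mul hr (p.E_R hf)))
  have c2 := p.E_central hf (p.A_T hx)
  rw [ex, er, cab, cab]
  rw [show x * e * (r * f) * (x * e)⁻¹ * (r * f)⁻¹ = x * (e * (r * f) * e⁻¹) * x⁻¹ * (f⁻¹ * r⁻¹) by group,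
    ← c1.eq, mul_inv_cancel_right, show x * (r * f) * x⁻¹ * (f⁻¹ * r⁻¹) = x * r * (f * x⁻¹ * f⁻¹) * r⁻¹ by group,
    ← c2.inv_left.eq, mul_inv_cancel_right]

theorem cab_left {x x' r : G} (hx : p.A x) (hx' : p.A x') (hr : p.R r) : cab (x * x') r = cab x' r * cab x r := by
  have h := p.E_central (p.cab_E hx' hr) (p.A_T hx)
  calc cab (x * x') r = x * cab x' r * x⁻¹ * cab x r := by simp only [cab]; group
    _ = _ := by rw [h.eq, mul_inv_cancel_right]

theorem cab_right {x r r' : G} (hx : p.A x) (hr : p.R r) (hr' : p.R r') : cab x (r * r') = cab x r * cab x r' := by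
  have h := p.E_central (p.cab_E hx hr') (p.R_T hr)
  calc cab x (r * r') = cab x r * (r * cab x r' * r⁻¹) := by simp only [cab]; group
    _ = _ := by rw [h.eq, mul_inv_cancel_right]

theorem cab_conj {t x r : G} (ht : p.T t) (hx : p.A x) (hr : p.R r) : cab (t * x * t⁻¹) (t * r * t⁻¹) = cab x r := by
  have h := p.E_central (p.cab_E hx hr) ht
  calc cab (t * x * t⁻¹) (t * r * t⁻¹) = t * cab x r * t⁻¹ := by simp only [cab]; group
    _ = _ := by rw [h.eq, mul_inv_cancel_right]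

/-- Both components of a commutator are the pairing of the two vectors. -/
theorem cab_ze {x r : G} (hx : p.A x) (hr : p.R r) : p.ze (cab x r) = pB (p.α x) (p.β r) := by
  classical
  choose xa hxa hα using fun w : {w // w ∈ W} => p.α_surj w.2
  choose rb hrb hβ using fun w : {w // w ∈ W} => p.β_surj w.2
  let Z : ℕ → ℕ → Bool := fun a b =>
    if h : a ∈ W ∧ b ∈ W then p.ze (cab (xa ⟨a, h.1⟩) (rb ⟨b, h.2⟩)) else false
  have hZ : ∀ {x r}, p.A x → p.R r → Z (p.α x) (p.β r) = p.ze (cab x r) := fun {x r} hx hr => by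
    show (if h : _ then _ else _) = _
    rw [dif_pos ⟨p.α_mem x, p.β_mem r⟩]
    exact congrArg _ (p.cab_congr (hxa _) hx (hrb _) hr (hα _) (hβ _))
  have addL : ∀ a ∈ W, ∀ b ∈ W, ∀ c ∈ W, Z (a ^^^ b) c = (Z a c ^^ Z b c) := by
    intro a ha b hb c hc
    have e1 := hα ⟨a, ha⟩; have e2 := hα ⟨b, hb⟩; have e3 := hβ ⟨c, hc⟩
    dsimp only at e1 e2 e3
    rw [← e1, ← e2, ← e3, ← p.α_mul (hxa _) (hxa _), hZ (p.A_mul (hxa _) (hxa _)) (hrb _), hZ (hxa _) (hrb _),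
      hZ (hxa _) (hrb _), p.cab_left (hxa _) (hxa _) (hrb _),
      (p.mul_zse (p.cab_E (hxa _) (hrb _)) (p.cab_E (hxa _) (hrb _))).1, Bool.xor_comm]
  have addR : ∀ a ∈ W, ∀ b ∈ W, ∀ c ∈ W, Z a (b ^^^ c) = (Z a b ^^ Z a c) := by
    intro a ha b hb c hc
    have e1 := hα ⟨a, ha⟩; have e2 := hβ ⟨b, hb⟩; have e3 := hβ ⟨c, hc⟩
    dsimp only at e1 e2 e3
    rw [← e1, ← e2, ← e3, ← p.β_mul (hrb _) (hrb _), hZ (hxa _) (p.R_mul (hrb _) (hrb _)), hZ (hxa _) (hrb _),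
      hZ (hxa _) (hrb _), p.cab_right (hxa _) (hrb _) (hrb _),
      (p.mul_zse (p.cab_E (hxa _) (hrb _)) (p.cab_E (hxa _) (hrb _))).1]
  have inv : ∀ h ∈ Om, cd h 1 = 1 → ∀ a ∈ W, ∀ b ∈ W, Z (sa h a) (sa h b) = Z a b := by
    intro h hh h1 a ha b hb
    obtain ⟨t, ht, rfl⟩ := p.T_lift hh h1
    have e1 := hα ⟨a, ha⟩; have e2 := hβ ⟨b, hb⟩
    dsimp only at e1 e2
    rw [← e1, ← e2, ← p.α_conj ht (hxa _), ← p.β_conj ht (hrb _), hZ (p.A_norm ht (hxa _)) (p.R_norm ht (hrb _)),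
      hZ (hxa _) (hrb _), p.cab_conj ht (hxa _) (hrb _)]
  have h2 : (2 : ℕ) ∈ W := by decide
  have hf := functional_eq (fun a => Z a 2) (fun a ha b hb => addL a ha b hb 2 h2) fun h hh h1 e x hx => by
    have := inv h hh h1 x hx 2 h2
    rwa [e] at this
  obtain ⟨cst, hcst⟩ : ∃ cst : Bool, ∀ a ∈ W, Z a 2 = (cst && pB a 2) := by
    rcases hf with h | h
    · exact ⟨false, fun a ha => by rw [h a ha, Bool.false_and]⟩
    · exact ⟨true, fun a ha => by rw [h a ha, Bool.true_and, pB_comm]⟩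
  have hz0 : ∀ a ∈ W, Z a 0 = false := fun a ha => by
    have := addR a ha 0 (by decide) 0 (by decide)
    rw [Nat.xor_self, Bool.xor_self] at this
    exact this
  have hsing : ∀ b ∈ W, qB b = false → ∀ a ∈ W, Z a b = (cst && pB a b) := by
    intro b hb hq a ha
    rcases eq_or_ne b 0 with rfl | h0
    · rw [hz0 a ha, (by decide +kernel : ∀ a ∈ W, pB a 0 = false) a ha, Bool.and_false]
    obtain ⟨h, hh, h1, e⟩ := trans_w5 hb hq h0
    have h1i : cd h⁻¹ 1 = 1 := by conv_lhs => rw [← h1, cd_inv h (by norm_num)]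
    obtain ⟨hl, hp, hn⟩ := W_lt a ha
    have ea : sa h (sa h⁻¹ a) = a := by rw [← sa_mul h1 h1i hl hp, mul_inv_cancel, sa, cd_one hl, hn]
    rw [← e, ← ea, inv h hh h1 _ (sa_mem _ _) 2 h2, hcst _ (sa_mem _ _), sa_p h1 (sa_mem _ _) h2]
  have hlin : ∀ a ∈ W, ∀ b ∈ W, Z a b = (cst && pB a b) := by
    intro a ha b hb
    obtain ⟨u, hu, v, hv, eu, ev, rfl⟩ := span_orbit false b hb
    have hu' : qB u = false := eu.elim (fun e => by rw [e]; decide) id
    have hv' : qB v = false := ev.elim (fun e => by rw [e]; decide) id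
    have hp : ∀ a ∈ W, ∀ u ∈ W, ∀ v ∈ W, pB a (u ^^^ v) = (pB a u ^^ pB a v) := by decide +kernel
    rw [addR a ha u hu v hv, hsing u hu hu' a ha, hsing v hv hv' a ha, hp a ha u hu v hv]
    cases cst <;> simp
  cases cst
  · exfalso
    obtain ⟨a, ha, ea⟩ := p.α_surj (w := 2) (by decide)
    obtain ⟨r, hr, er⟩ := p.β_surj (w := 8) (by decide)
    have h1 := p.cab_se ha hr
    rw [ea, er, show pB 2 8 = true by decide] at h1
    have hx' := p.R_conj.mp hr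
    have hr' := p.A_conj.mp ha
    have e0 : cab (p.k⁻¹ * r * p.k) (p.k⁻¹ * a * p.k) = p.k⁻¹ * (cab a r)⁻¹ * p.k := by simp only [cab]; group
    have hxA : p.R (p.k⁻¹ * a * p.k) := by
      have hk2 : p.T (p.k * p.k) := by
        constructor
        · refine mul_inv_eq_iff_eq_mul.mp ?_
          rw [show p.k * p.k * z * (p.k * p.k)⁻¹ = p.k * (p.k * z * p.k⁻¹) * p.k⁻¹ by group, p.kz, p.ks]
        · refine mul_inv_eq_iff_eq_mul.mp ?_
          rw [show p.k * p.k * p.s * (p.k * p.k)⁻¹ = p.k * (p.k * p.s * p.k⁻¹) * p.k⁻¹ by group, p.ks, p.kz]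
      have := p.R_norm (p.T_inv hk2) hr'
      rwa [show (p.k * p.k)⁻¹ * (p.k * a * p.k⁻¹) * (p.k * p.k)⁻¹⁻¹ = p.k⁻¹ * a * p.k by group] at this
    have h2 := hZ hx' hxA
    rw [hlin _ (p.α_mem _) _ (p.β_mem _), Bool.false_and, e0] at h2
    obtain ⟨⟨z1, t1⟩, ⟨z2, t2⟩, ⟨z3, t3⟩, ⟨z4, t4⟩⟩ := p.zse
    rcases p.E_inv (p.cab_E ha hr) with e | e | e | e
    · rw [inv_eq_one] at e
      rw [e, t1] at h1; exact absurd h1 (by decide)
    · rw [inv_eq_iff_eq_inv, p.X.inv_z] at e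
      rw [e, t2] at h1; exact absurd h1 (by decide)
    · rw [e, p.kinv_s, z2] at h2; exact absurd h2 (by decide)
    · rw [e, show p.k⁻¹ * (z * p.s) * p.k = p.k⁻¹ * z * p.k * (p.k⁻¹ * p.s * p.k) by group, p.kinv_z, p.kinv_s,
        p.sz.eq, z4] at h2
      exact absurd h2 (by decide)
  · rw [← hZ hx hr, hlin _ (p.α_mem x) _ (p.β_mem r), Bool.true_and]

theorem sq_zse {x : G} (hx : p.A x) : p.InE (x * x) ∧ p.ze (x * x) = qB (p.α x) ∧ p.se (x * x) = false := by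
  obtain ⟨⟨z1, t1⟩, ⟨z2, t2⟩, -, -⟩ := p.zse
  rcases p.X.sq x hx.1 with e | e
  · rw [e, (p.α_sq hx).mp e]; exact ⟨Or.inl rfl, z1, t1⟩
  · have hq : qB (p.α x) = true := by
      by_contra hq
      rw [Bool.not_eq_true] at hq
      exact p.X.ne (e.symm.trans ((p.α_sq hx).mpr hq))
    rw [e, hq]; exact ⟨Or.inr (Or.inl rfl), z2, t2⟩

theorem sq_zse' {r : G} (hr : p.R r) : p.InE (r * r) ∧ p.ze (r * r) = false ∧ p.se (r * r) = qB (p.β r) := by
  obtain ⟨⟨z1, t1⟩, -, ⟨z3, t3⟩, -⟩ := p.zse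
  rcases p.X'.sq r hr.1 with e | e
  · rw [e, (p.β_sq hr).mp e]; exact ⟨Or.inl rfl, z1, t1⟩
  · have hq : qB (p.β r) = true := by
      by_contra hq
      rw [Bool.not_eq_true] at hq
      exact p.s_ne.1 (e.symm.trans ((p.β_sq hr).mpr hq))
    rw [e, hq]; exact ⟨Or.inr (Or.inr (Or.inl rfl)), z3, t3⟩

/-- When a product of the two parts is an involution. -/
theorem prod_sq {q r : G} (hq : p.A q) (hr : p.R r) :
    q * r * (q * r) = 1 ↔ qB (p.α q) = pB (p.α q) (p.β r) ∧ qB (p.β r) = pB (p.α q) (p.β r) := by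
  have hE := p.cab_E hq hr
  have hc := p.E_central hE (p.R_T hr)
  obtain ⟨he1, z1, t1⟩ := p.sq_zse hq
  obtain ⟨he2, z2, t2⟩ := p.sq_zse' hr
  obtain ⟨⟨z0, t0⟩, -, -, -⟩ := p.zse
  have e : q * r * (q * r) = q * q * (r * r) * cab q r := by
    have hx : r * q = (cab q r)⁻¹ * (q * r) := by rw [cab]; group
    have hinv : (cab q r)⁻¹ = cab q r := inv_eq_of_mul_eq_one_right (p.E_sq hE)
    rw [hinv] at hx
    calc q * r * (q * r) = q * (r * q) * r := by group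
      _ = q * cab q r * q * (r * r) := by rw [hx]; group
      _ = cab q r * (q * q) * (r * r) := by rw [(p.E_central hE (p.A_T hq)).eq]; group
      _ = _ := by rw [(p.E_central hE (p.T_mul (p.T_mul (p.A_T hq) (p.A_T hq)) (p.T_mul (p.R_T hr) (p.R_T hr)))).eq, mul_assoc (cab q r)]
  have he12 := p.E_cases he1 _ he2
  rw [e]
  constructor
  · intro h
    have hz := congrArg p.ze h
    have ht := congrArg p.se h
    rw [(p.mul_zse he12 hE).1, (p.mul_zse he1 he2).1, z1, z2, p.cab_ze hq hr, z0] at hz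
    rw [(p.mul_zse he12 hE).2, (p.mul_zse he1 he2).2, t1, t2, p.cab_se hq hr, t0] at ht
    revert hz ht
    cases qB (p.α q) <;> cases qB (p.β r) <;> cases pB (p.α q) (p.β r) <;> simp
  · rintro ⟨ha, hb⟩
    refine p.eq_of_zse (p.E_cases he12 _ hE) (Or.inl rfl) ?_ ?_
    · rw [(p.mul_zse he12 hE).1, (p.mul_zse he1 he2).1, z1, z2, p.cab_ze hq hr, z0, ha]
      cases pB (p.α q) (p.β r) <;> rfl
    · rw [(p.mul_zse he12 hE).2, (p.mul_zse he1 he2).2, t1, t2, p.cab_se hq hr, t0, hb]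
      cases pB (p.α q) (p.β r) <;> rfl

theorem R_invol {y : G} (hy : p.R y) (hy1 : y * y = 1) (hb : p.β y ≠ 0) : IsConj z y := by
  have hA := p.R_conj.mp hy
  obtain ⟨a1, a2, a3⟩ := p.zs_ne
  have hne : y ∉ p.Q := fun h => hb ((p.β_zero hy).mpr h)
  set x := p.k⁻¹ * y * p.k with hx
  have hy' : y = p.k * x * p.k⁻¹ := by rw [hx]; group
  have hxx : x * x = 1 := by
    rw [hx, show p.k⁻¹ * y * p.k * (p.k⁻¹ * y * p.k) = p.k⁻¹ * (y * y) * p.k by group, hy1]; group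
  have h0 : p.π x ≠ 0 := fun e => by
    rcases (p.π_zero x hA.1).mp e with e' | e' <;> refine hne ?_ <;> rw [hy', e']
    · simp
    · rw [p.kz]; exact p.hs
  obtain ⟨h, hh, he⟩ := trans_sing (p.π_lt x) h0 ((p.π_sq x hA.1).mp hxx)
  obtain ⟨d, hd, hdm⟩ := p.toCtx.m_surj hh
  have e1 : p.π (d * p.s * d⁻¹) = p.π x := by rw [p.toCtx.act hd p.hs, hdm, p.πs, he]
  obtain ⟨q, hq, hqe⟩ := p.toCtx.conj_to_code hA.1 (p.toCtx.norm hd p.hs) (by rw [e1]; exact h0) e1.symm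
  refine isConj_iff.mpr ⟨p.k * q * d * p.k, ?_⟩
  rw [show p.k * q * d * p.k * z * (p.k * q * d * p.k)⁻¹ = p.k * (q * (d * (p.k * z * p.k⁻¹) * d⁻¹) * q⁻¹) * p.k⁻¹ by
    group, p.kz, hqe, hy']

theorem Q_invol {x : G} (hx : x ∈ p.Q) (hxx : x * x = 1) (hx1 : x ≠ 1) : IsConj z x := by
  rcases eq_or_ne (p.π x) 0 with e | h0
  · rcases (p.π_zero x hx).mp e with e' | e'
    · exact absurd e' hx1
    · rw [e']
  obtain ⟨h, hh, he⟩ := trans_sing (p.π_lt x) h0 ((p.π_sq x hx).mp hxx)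
  obtain ⟨d, hd, hdm⟩ := p.toCtx.m_surj hh
  have e1 : p.π (d * p.s * d⁻¹) = p.π x := by rw [p.toCtx.act hd p.hs, hdm, p.πs, he]
  obtain ⟨q, hq, hqe⟩ := p.toCtx.conj_to_code hx (p.toCtx.norm hd p.hs) (by rw [e1]; exact h0) e1.symm
  refine isConj_iff.mpr ⟨q * d * p.k, ?_⟩
  rw [show q * d * p.k * z * (q * d * p.k)⁻¹ = q * (d * (p.k * z * p.k⁻¹) * d⁻¹) * q⁻¹ by group, p.kz, hqe]

/-- Moving an involution of the centralizer outside `Q` into the product of the two parts. -/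
theorem normal_form {y : G} (hy : Commute y z) (hyy : y * y = 1) (hyQ : y ∉ p.Q) :
    ∃ d q r, Commute d z ∧ p.A q ∧ p.R r ∧ d * y * d⁻¹ = q * r ∧ p.β r ≠ 0 := by
  have hg : p.toCtx.m y * p.toCtx.m y = 1 := by rw [← p.toCtx.m_mul hy hy, hyy, p.toCtx.m_one]
  obtain ⟨h, hh, w, hw, he⟩ := inv_conj (p.toCtx.m_mem hy) hg
  obtain ⟨d, hd, rfl⟩ := p.toCtx.m_surj hh
  obtain ⟨r, hr, hb⟩ := p.β_surj hw
  have hyd : Commute (d * y * d⁻¹) z := (hd.mul_left hy).mul_left hd.inv_left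
  have hm : p.toCtx.m (d * y * d⁻¹) = p.toCtx.m r := cd_ext fun x hx => by
    rw [p.toCtx.m_mul (hd.mul_left hy) hd.inv_left, p.toCtx.m_mul hd hy, p.toCtx.m_inv hd, he x hx, p.m_rho hr x hx, hb]
  set y' := d * y * d⁻¹ with hy'
  have hq : y' * r⁻¹ ∈ p.Q := (p.toCtx.m_one_iff (hyd.mul_left hr.2.inv_left)).mp (by
    rw [p.toCtx.m_mul hyd hr.2.inv_left, p.toCtx.m_inv hr.2, hm, mul_inv_cancel])
  have hb0 : p.β r ≠ 0 := fun e => hyQ (by
    have hyd' : y' ∈ p.Q := by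
      have := mul_mem hq ((p.β_zero hr).mp e)
      rwa [inv_mul_cancel_right] at this
    have := p.toCtx.norm hd.inv_left hyd'
    rwa [hy', show d⁻¹ * (d * y * d⁻¹) * d⁻¹⁻¹ = y by group] at this)
  refine ⟨d, y' * r⁻¹, r, hd, p.A_of_perp hq ?_, hr, (inv_mul_cancel_right y' r).symm, hb0⟩
  set q := y' * r⁻¹ with hqdef
  have hy2 : y' * y' = 1 := by
    rw [hy', show d * y * d⁻¹ * (d * y * d⁻¹) = d * (y * y) * d⁻¹ by group, hyy, mul_one, mul_inv_cancel]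
  have e1 : r * q * r⁻¹ = q⁻¹ * (r * r)⁻¹ := by
    have h3 : q * r * (q * r) = 1 := by rw [hqdef, inv_mul_cancel_right]; exact hy2
    calc r * q * r⁻¹ = q⁻¹ * (q * r * (q * r)) * (r * r)⁻¹ := by group
      _ = _ := by rw [h3, mul_one]
  have hrr : (r * r)⁻¹ ∈ p.Q := inv_mem (p.E_A (p.sq_zse' hr).1).1
  have e2 := congrArg p.π e1
  rw [p.toCtx.act hr.2 hq, p.m_rho hr _ (p.π_lt q), p.π_mul _ (inv_mem hq) _ hrr, p.toCtx.pi_inv hq,
    p.se_code (p.E_inv (p.sq_zse' hr).1)] at e2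
  refine rho_fix _ (p.β_mem r) _ (p.π_lt q) hb0 ?_
  rw [e2, Nat.xor_comm (p.π q), Nat.xor_assoc, Nat.xor_self, Nat.xor_zero]
  cases p.se (r * r)⁻¹ <;> decide

theorem five_fixed {y : G} (hy : Commute y z) (hyy : y * y = 1) (hyQ : y ∉ p.Q) :
    ∃ f : Fin 5 → G, Function.Injective f ∧ ∀ i, f i ∈ p.Q ∧ Commute (f i) y := by
  obtain ⟨d, q, r, hd, hq, hr, e, -⟩ := p.normal_form hy hyy hyQ
  obtain ⟨v, hv, hv0, hva, hvb⟩ := perp_exists _ (p.α_mem q) _ (p.β_mem r)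
  obtain ⟨x, hx, hxa⟩ := p.α_surj hv
  have c1 : Commute x r := by
    have h1 := p.cab_ze hx hr
    have h2 := p.cab_se hx hr
    rw [hxa, hvb] at h1 h2
    obtain ⟨⟨z1, t1⟩, -⟩ := p.zse
    have h3 := p.eq_of_zse (p.cab_E hx hr) (Or.inl rfl) (h1.trans z1.symm) (h2.trans t1.symm)
    rw [cab, mul_inv_eq_one, mul_inv_eq_iff_eq_mul] at h3
    exact h3
  have c2 : Commute x q := (p.α_comm hx hq).mpr (by rw [hxa]; exact hva)
  let f0 : Fin 5 → G := ![1, z, p.s, z * p.s, x]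
  have hT : p.T (q * r) := p.T_mul (p.A_T hq) (p.R_T hr)
  have hf : ∀ i, f0 i ∈ p.Q ∧ Commute (f0 i) (q * r) := by
    intro i
    fin_cases i
    · exact ⟨one_mem _, Commute.one_left _⟩
    · exact ⟨p.X.mem, hT.1.symm⟩
    · exact ⟨p.hs, hT.2.symm⟩
    · exact ⟨mul_mem p.X.mem p.hs, (hT.1.mul_right hT.2).symm⟩
    · exact ⟨hx.1, c2.mul_right c1⟩
  have hinj : Function.Injective f0 := by
    obtain ⟨a1, a2, a3⟩ := p.zs_ne
    have hxE : ¬ p.InE x := fun h => hv0 (hxa.symm.trans (p.α_E h))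
    simp only [InE, not_or] at hxE
    obtain ⟨n1, n2, n3, n4⟩ := hxE
    intro i j h
    fin_cases i <;> fin_cases j <;> first | rfl | (exfalso; revert h; simp [f0, p.X.ne, p.s_ne.1, p.s_ne.2, a1, a2, a3,
      n1, n2, n3, n4, Ne.symm p.X.ne, Ne.symm p.s_ne.1, Ne.symm p.s_ne.2, Ne.symm a1, Ne.symm a2, Ne.symm a3,
      Ne.symm n1, Ne.symm n2, Ne.symm n3, Ne.symm n4])
  refine ⟨fun i => d⁻¹ * f0 i * d, fun i j h => hinj (mul_left_cancel (mul_right_cancel h)), fun i => ⟨?_, ?_⟩⟩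
  · have := p.toCtx.norm hd.inv_left (hf i).1
    rwa [inv_inv] at this
  · have hye : y = d⁻¹ * (q * r) * d := by rw [← e]; group
    have := (Commute.conj_iff d⁻¹).mpr (hf i).2
    rw [inv_inv] at this
    rwa [hye]

theorem exists_tt : ∃ q r, p.A q ∧ p.R r ∧ p.α q = 10 ∧ p.β r = 18 := by
  obtain ⟨q, hq, e⟩ := p.α_surj (w := 10) (by decide)
  obtain ⟨r, hr, e'⟩ := p.β_surj (w := 18) (by decide)
  exact ⟨q, r, hq, hr, e, e'⟩

/-- Involutions of the product with anisotropic pairs form one class. -/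
theorem tt_conj {q r q0 r0 : G} (hq : p.A q) (hr : p.R r) (hq0 : p.A q0) (hr0 : p.R r0) (a0 : p.α q0 = 10)
    (b0 : p.β r0 = 18) (ha : qB (p.α q) = true) (hb : qB (p.β r) = true) (hab : pB (p.α q) (p.β r) = true) :
    IsConj (q0 * r0) (q * r) := by
  obtain ⟨h, hh, h1, ea, eb⟩ := trans_w60 (p.α_mem q) (p.β_mem r) ha hb hab
  obtain ⟨t, ht, rfl⟩ := p.T_lift hh h1
  obtain ⟨q1, hq1⟩ : ∃ v, v = t * q0 * t⁻¹ := ⟨_, rfl⟩
  obtain ⟨r1, hr1⟩ : ∃ v, v = t * r0 * t⁻¹ := ⟨_, rfl⟩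
  have A1 : p.A q1 := hq1 ▸ p.A_norm ht hq0
  have R1 : p.R r1 := hr1 ▸ p.R_norm ht hr0
  have e1 : p.α q1 = p.α q := by rw [hq1, p.α_conj ht hq0, a0, ea]
  have e2 : p.β r1 = p.β r := by rw [hr1, p.β_conj ht hr0, b0, eb]
  have hE1 : p.InE (q1⁻¹ * q) := p.α_zero (p.A_mul (p.A_inv A1) hq) (by
    rw [p.α_mul (p.A_inv A1) hq, p.α_inv A1, e1, Nat.xor_self])
  have hE2 := p.R_fibre R1 hr e2
  have hee := p.E_cases hE1 _ hE2
  set e := q1⁻¹ * q * (r1⁻¹ * r) with hedef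
  have eqn : q * r = q1 * r1 * e := by
    calc q * r = q1 * (q1⁻¹ * q) * (r1 * (r1⁻¹ * r)) := by group
      _ = q1 * ((q1⁻¹ * q) * r1) * (r1⁻¹ * r) := by group
      _ = q1 * (r1 * (q1⁻¹ * q)) * (r1⁻¹ * r) := by rw [(p.E_central hE1 (p.R_T R1)).eq]
      _ = _ := by rw [hedef]; group
  obtain ⟨v, hv, va, vb⟩ := pair_partner _ (p.α_mem q) _ (p.β_mem r) ha hb hab (p.ze e ^^ p.se e) (p.se e)
  obtain ⟨x, hx, hxa⟩ := p.α_surj hv
  have hxq : p.InE (x * q1 * x⁻¹ * q1⁻¹) := by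
    have hcm := p.A_mul (p.A_mul (p.A_mul hx A1) (p.A_inv hx)) (p.A_inv A1)
    refine p.α_zero hcm ?_
    rw [p.α_mul (p.A_mul (p.A_mul hx A1) (p.A_inv hx)) (p.A_inv A1), p.α_mul (p.A_mul hx A1) (p.A_inv hx),
      p.α_mul hx A1, p.α_inv hx, p.α_inv A1, Nat.xor_comm (p.α x), Nat.xor_assoc (p.α q1), Nat.xor_self,
      Nat.xor_zero, Nat.xor_self]
  obtain ⟨⟨z0, t0⟩, ⟨z2, t2⟩, -, -⟩ := p.zse
  have hzq : p.ze (x * q1 * x⁻¹ * q1⁻¹) = pB v (p.α q) ∧ p.se (x * q1 * x⁻¹ * q1⁻¹) = false := by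
    have hc := p.α_comm hx A1
    rw [hxa, e1] at hc
    cases hp : pB v (p.α q)
    · rw [(hc.mpr hp).eq, mul_inv_cancel_right, mul_inv_cancel]; exact ⟨z0, t0⟩
    · have hn : ¬ Commute x q1 := fun h => by rw [hc.mp h] at hp; exact Bool.false_ne_true hp
      rw [p.X.not_commute_conj hx.1 A1.1 hn, mul_inv_cancel_right]; exact ⟨z2, t2⟩
  have hcr := p.cab_ze hx R1
  have hcr' := p.cab_se hx R1
  rw [hxa, e2] at hcr hcr'
  have hprod : x * (q1 * r1) * x⁻¹ = q1 * r1 * ((x * q1 * x⁻¹ * q1⁻¹) * cab x r1) := by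
    have c1 := p.E_central hxq (p.T_mul (p.A_T A1) (p.R_T R1))
    have c2 := p.E_central (p.cab_E hx R1) (p.R_T R1)
    calc x * (q1 * r1) * x⁻¹ = (x * q1 * x⁻¹ * q1⁻¹) * (q1 * (cab x r1 * r1)) := by simp only [cab]; group
      _ = (x * q1 * x⁻¹ * q1⁻¹) * (q1 * r1) * cab x r1 := by rw [← c2.eq]; group
      _ = _ := by rw [← c1.eq]; group
  have he : (x * q1 * x⁻¹ * q1⁻¹) * cab x r1 = e := by
    refine p.eq_of_zse (p.E_cases hxq _ (p.cab_E hx R1)) hee ?_ ?_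
    · rw [(p.mul_zse hxq (p.cab_E hx R1)).1, hzq.1, hcr, va, vb]
      cases p.ze e <;> cases p.se e <;> rfl
    · rw [(p.mul_zse hxq (p.cab_E hx R1)).2, hzq.2, hcr', vb]
      cases p.se e <;> rfl
  refine isConj_iff.mpr ⟨x * t, ?_⟩
  rw [show x * t * (q0 * r0) * (x * t)⁻¹ = x * ((t * q0 * t⁻¹) * (t * r0 * t⁻¹)) * x⁻¹ by group, ← hq1, ← hr1, hprod,
    he, ← eqn]

theorem central_involutions {y : G} (hy : Commute y z) (hyy : y * y = 1) (hy1 : y ≠ 1) {q0 r0 : G} (hq0 : p.A q0)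
    (hr0 : p.R r0) (a0 : p.α q0 = 10) (b0 : p.β r0 = 18) : IsConj z y ∨ IsConj (q0 * r0) y := by
  by_cases hyQ : y ∈ p.Q
  · exact Or.inl (p.Q_invol hyQ hyy hy1)
  obtain ⟨d, q, r, hd, hq, hr, e, hb⟩ := p.normal_form hy hyy hyQ
  have hcj : IsConj (q * r) y := isConj_iff.mpr ⟨d⁻¹, by rw [← e]; group⟩
  have h2 : q * r * (q * r) = 1 := by
    rw [← e, show d * y * d⁻¹ * (d * y * d⁻¹) = d * (y * y) * d⁻¹ by group, hyy, mul_one, mul_inv_cancel]
  obtain ⟨s1, s2⟩ := (p.prod_sq hq hr).mp h2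
  rcases sing_pair _ (p.α_mem q) _ (p.β_mem r) hb s1 s2 with h | ⟨h, hsing⟩ | ⟨ha, hb', hab⟩
  · refine Or.inl (IsConj.trans (p.R_invol (p.R_mul (p.E_R (p.α_zero hq h)) hr) h2 ?_) hcj)
    rw [p.β_mul (p.E_R (p.α_zero hq h)) hr, p.β_E (p.α_zero hq h), Nat.zero_xor]
    exact hb
  · -- conjugate into the conjugate part
    obtain ⟨y4, hy4, hn, hp⟩ := move_high _ (p.β_mem r)
    obtain ⟨x, hx, hxπ⟩ := p.π_surj y4 hy4
    set q1 := x * (r * x⁻¹ * r⁻¹) with hq1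
    have hq1Q : q1 ∈ p.Q := mul_mem hx (p.toCtx.norm hr.2 (inv_mem hx))
    have hπ : p.π q1 = y4 ^^^ rho (p.β r) y4 := by
      rw [hq1, p.π_mul x hx _ (p.toCtx.norm hr.2 (inv_mem hx)), p.toCtx.act hr.2 (inv_mem hx), p.toCtx.pi_inv hx,
        p.m_rho hr _ (p.π_lt x), hxπ]
    have A1 : p.A q1 := p.A_of_perp hq1Q (by rw [hπ]; exact hp)
    have a1 : p.α q1 = p.β r := by rw [α, hπ]; exact hn
    have hE : p.InE (q * q1⁻¹) := p.α_zero (p.A_mul hq (p.A_inv A1)) (by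
      rw [p.α_mul hq (p.A_inv A1), p.α_inv A1, a1, h, Nat.xor_self])
    set e' := q * q1⁻¹ with he'
    have eqn : x⁻¹ * (q * r) * x = (x⁻¹ * e' * x) * r := by rw [he', hq1]; group
    have hEx : p.InE (x⁻¹ * e' * x) := by
      by_cases hc : Commute x⁻¹ e'
      · rwa [show x⁻¹ * e' * x = x⁻¹ * e' * x⁻¹⁻¹ by group, hc.eq, mul_inv_cancel_right]
      · rw [show x⁻¹ * e' * x = x⁻¹ * e' * x⁻¹⁻¹ by group, p.X.not_commute_conj (inv_mem hx) (p.E_A hE).1 hc]
        exact p.E_cases (Or.inr (Or.inl rfl)) _ hE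
    have hR := p.R_mul (p.E_R hEx) hr
    refine Or.inl (IsConj.trans (p.R_invol hR ?_ ?_) (IsConj.trans ?_ hcj))
    · rw [← eqn, show x⁻¹ * (q * r) * x * (x⁻¹ * (q * r) * x) = x⁻¹ * (q * r * (q * r)) * x by group, h2]; group
    · rw [p.β_mul (p.E_R hEx) hr, p.β_E hEx, Nat.zero_xor]; exact hb
    · exact isConj_iff.mpr ⟨x, by rw [← eqn]; group⟩
  · exact Or.inr (IsConj.trans (p.tt_conj hq hr hq0 hr0 a0 b0 ha hb' hab) hcj)

/-- The second class is not the class of `z`. -/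
theorem tt_not_conj {q r : G} (hq : p.A q) (hr : p.R r) (a0 : p.α q = 10) (b0 : p.β r = 18) :
    ¬ IsConj z (q * r) := by
  intro hconj
  obtain ⟨h, hh⟩ := isConj_iff.mp hconj
  set t := q * r with htdef
  have hT : p.T t := p.T_mul (p.A_T hq) (p.R_T hr)
  have htm : ∀ x < 64, cd (p.toCtx.m t) x = rho 18 x := fun x hx => by
    rw [htdef, p.toCtx.m_mul (p.A_T hq).1 hr.2, (p.toCtx.m_one_iff (p.A_T hq).1).mpr hq.1, one_mul, p.m_rho hr x hx, b0]
  have htQ : t ∉ p.Q := fun h' => by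
    have := mul_mem (inv_mem hq.1) h'
    rw [htdef, inv_mul_cancel_left] at this
    rw [(p.β_zero hr).mpr this] at b0
    exact absurd b0 (by decide)
  have htt : t * t = 1 := (p.prod_sq hq hr).mpr (by rw [a0, b0]; decide)
  let Qt : Subgroup G := p.Q.map (MulAut.conj h).toMonoidHom
  have memQt : ∀ {v}, v ∈ Qt ↔ h⁻¹ * v * h ∈ p.Q := fun {v} => mem_map_conj
  have XQ : X2 Qt t := by rw [← hh]; exact p.X.conj h
  have sym : ∀ g : G, g * z * g⁻¹ ∈ p.Q → g * z * g⁻¹ ≠ z → g⁻¹ * z * g ∈ p.Q := fun g a b =>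
    mem_conj_of_mem p.X p.cQ p.nQ p.toCtx.card_Q a b
  have nQt : ∀ {v m}, Commute v t → m ∈ Qt → v * m * v⁻¹ ∈ Qt := fun {v m} hv hm => by
    rw [memQt] at hm ⊢
    have h1 : Commute (h⁻¹ * v * h) z := by
      have := (Commute.conj_iff h⁻¹).mpr hv
      rwa [inv_inv, ← hh, show h⁻¹ * (h * z * h⁻¹) * h = z by group] at this
    rw [show h⁻¹ * (v * m * v⁻¹) * h = h⁻¹ * v * h * (h⁻¹ * m * h) * (h⁻¹ * v * h)⁻¹ by group]
    exact p.toCtx.norm h1 hm
  have hz1 : t ≠ z := fun e => htQ (by rw [e]; exact p.X.mem)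
  have zQt : z ∉ Qt := fun hz => by
    rw [memQt] at hz
    refine htQ ?_
    have := sym h⁻¹ (by rwa [inv_inv]) (fun e => hz1 (by
      rw [← hh]
      rw [inv_inv] at e
      calc h * z * h⁻¹ = h * (h⁻¹ * z * h) * h⁻¹ := by rw [e]
        _ = z := by group))
    rwa [inv_inv, hh] at this
  have sQt : ∀ v ∈ p.Q, v * p.s * v⁻¹ ∈ Qt → v⁻¹ * t * v ∈ p.Q' := fun v hv hs => by
    rw [memQt] at hs
    have e1 : h⁻¹ * v * p.k * z * (h⁻¹ * v * p.k)⁻¹ = h⁻¹ * (v * p.s * v⁻¹) * h := by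
      rw [← p.kz]; group
    have := sym (h⁻¹ * v * p.k) (by rwa [e1]) (fun e => by
      rw [e1] at e
      refine htQ ?_
      have e2 : t = v * p.s * v⁻¹ :=
        calc t = h * z * h⁻¹ := hh.symm
          _ = h * (h⁻¹ * (v * p.s * v⁻¹) * h) * h⁻¹ := by rw [e]
          _ = _ := by group
      rw [e2]
      exact mul_mem (mul_mem hv p.hs) (inv_mem hv))
    rw [show (h⁻¹ * v * p.k)⁻¹ * z * (h⁻¹ * v * p.k) = p.k⁻¹ * (v⁻¹ * (h * z * h⁻¹) * v) * p.k by group, hh] at this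
    exact p.mem_Q'.mpr this
  have s_out : p.s ∉ Qt := fun hs => by
    have := sQt 1 (one_mem _) (by simpa using hs)
    rw [inv_one, one_mul, mul_one] at this
    have hR : p.R t := ⟨this, hT.1⟩
    have hqR : p.R q := by
      have := p.R_mul hR (p.R_inv hr)
      rwa [htdef, mul_inv_cancel_right] at this
    rw [p.α_E (p.R_cap hqR hq.1)] at a0
    exact absurd a0 (by decide)
  have zs_out : z * p.s ∉ Qt := fun hs => by
    obtain ⟨x, hx, hxs⟩ := p.X.exists_swap p.hs fun hm => by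
      rcases (mem_zpowers_two p.X.zz).mp hm with e | e
      · exact p.s_ne.1 e
      · exact p.s_ne.2 e
    have hp4 : pB 1 (p.π x) = true := by
      by_contra hc
      rw [Bool.not_eq_true] at hc
      have := (p.A_of_perp hx hc).2
      rw [this.eq, mul_inv_cancel_right] at hxs
      exact p.X.ne (mul_eq_right.mp hxs.symm)
    have hmem := sQt x hx (by rwa [hxs])
    set t' := x⁻¹ * t * x with ht'
    have hts : Commute t' p.s := by
      have h' := (Commute.conj_iff x⁻¹).mpr (hT.1.mul_right hT.2)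
      rw [inv_inv] at h'
      rw [show x⁻¹ * (z * p.s) * x = p.s by rw [← hxs]; group] at h'
      exact h'
    have htz : Commute t' z :=
      ((p.X.central x hx).inv_left.mul_left hT.1).mul_left (p.X.central x hx)
    have hR : p.R t' := ⟨hmem, htz⟩
    set q2 := x⁻¹ * (t * x * t⁻¹) with hq2
    have hq2Q : q2 ∈ p.Q := mul_mem (inv_mem hx) (p.toCtx.norm hT.1 hx)
    have A2 : p.A q2 := by
      refine ⟨hq2Q, ?_⟩
      have : q2 = t' * t⁻¹ := by rw [hq2, ht']; group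
      rw [this]; exact hts.mul_left hT.2.inv_left
    have hπ : p.α q2 = 18 := by
      rw [α, hq2, p.π_mul _ (inv_mem hx) _ (p.toCtx.norm hT.1 hx), p.toCtx.pi_inv hx, p.toCtx.act hT.1 hx,
        htm _ (p.π_lt x)]
      exact shift_nr 18 (by decide) _ (p.π_lt x) hp4
    have hqR : p.R (q2 * q) := by
      have := p.R_mul hR (p.R_inv hr)
      rwa [show t' * r⁻¹ = q2 * q by rw [ht', hq2, htdef]; group] at this
    have := p.α_E (p.R_cap hqR (mul_mem hq2Q hq.1))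
    rw [p.α_mul A2 hq, hπ, a0] at this
    exact absurd this (by decide)
  have perp_of_fix : ∀ {v}, v ∈ p.Q → Commute v t → p.A v := fun {v} hv hc => by
    refine p.A_of_perp hv (rho_fix 18 (by decide) _ (p.π_lt v) (by decide) ?_)
    have := p.toCtx.act hT.1 hv
    rw [← hc.eq, mul_inv_cancel_right, htm _ (p.π_lt v)] at this
    rw [← this, Nat.xor_self]; norm_num
  have comm_t : ∀ {v}, p.A v → (Commute v t ↔ pB (p.α v) 10 = false ∧ pB (p.α v) 18 = false) := fun {v} hv => by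
    constructor
    · intro hc
      have h1 : v * q * v⁻¹ * q⁻¹ * (q * cab v r * q⁻¹) = 1 := by
        calc v * q * v⁻¹ * q⁻¹ * (q * cab v r * q⁻¹) = v * (q * r) * v⁻¹ * (q * r)⁻¹ := by simp only [cab]; group
          _ = 1 := by rw [← htdef, hc.eq, mul_inv_cancel_right, mul_inv_cancel]
      rw [← (p.E_central (p.cab_E hv hr) (p.A_T hq)).eq.symm, mul_inv_cancel_right] at h1
      have hvq : v * q * v⁻¹ * q⁻¹ = (cab v r)⁻¹ := eq_inv_of_mul_eq_one_left h1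
      have hse : p.se (v * q * v⁻¹ * q⁻¹) = false := by
        obtain ⟨⟨-, t0⟩, ⟨-, t2⟩, -⟩ := p.zse
        rcases p.X.comm v hv.1 q hq.1 with e | e <;> rw [commutatorElement_def] at e <;> rw [e]
        · exact t0
        · exact t2
      rw [hvq, inv_eq_of_mul_eq_one_right (p.E_sq (p.cab_E hv hr)), p.cab_se hv hr, b0] at hse
      have hcab : cab v r = 1 := p.eq_of_zse (p.cab_E hv hr) (Or.inl rfl)
        (by rw [p.cab_ze hv hr, b0, hse, p.zse.1.1]) (by rw [p.cab_se hv hr, b0, hse, p.zse.1.2])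
      rw [hcab, inv_one, mul_inv_eq_one, mul_inv_eq_iff_eq_mul] at hvq
      exact ⟨by rw [← a0]; exact (p.α_comm hv hq).mp hvq, hse⟩
    · rintro ⟨h1, h2⟩
      have e1 : Commute v q := (p.α_comm hv hq).mpr (by rw [a0]; exact h1)
      have e2 : cab v r = 1 := p.eq_of_zse (p.cab_E hv hr) (Or.inl rfl)
        (by rw [p.cab_ze hv hr, b0, h2, p.zse.1.1]) (by rw [p.cab_se hv hr, b0, h2, p.zse.1.2])
      rw [cab, mul_inv_eq_one, mul_inv_eq_iff_eq_mul] at e2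
      exact e1.mul_right e2
  have J : ∀ {v}, v ∈ p.Q → v ∈ Qt → v = 1 := fun {v} hv hv' => by
    have hA := perp_of_fix hv (XQ.central v hv')
    by_contra hne
    obtain ⟨d1, d2⟩ := (comm_t hA).mp (XQ.central v hv')
    rcases eq_or_ne (p.α v) 0 with e | e
    · rcases p.α_zero hA e with r' | r' | r' | r'
      · exact hne r'
      · exact zQt (r' ▸ hv')
      · exact s_out (r' ▸ hv')
      · exact zs_out (r' ▸ hv')
    · obtain ⟨d', hd', da, db, hdd⟩ := perp_partner 10 (by decide) 18 (by decide) (by decide) (by decide) (by decide) _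
        (p.α_mem v) d1 d2 e
      obtain ⟨x, hx, hxa⟩ := p.α_surj hd'
      have hxt : Commute x t := (comm_t hx).mpr (by rw [hxa]; exact ⟨da, db⟩)
      have hn : ¬ Commute x v := fun hc => by
        have := (p.α_comm hA hx).mp hc.symm
        rw [hxa, hdd] at this
        exact absurd this (by decide)
      have := mul_mem (nQt hxt hv') (inv_mem hv')
      rw [p.X.not_commute_conj hx.1 hv hn, mul_inv_cancel_right] at this
      exact zQt this
  have comU : ∀ {x u}, x ∈ p.Q → Commute x t → u ∈ Qt → Commute u z → Commute x u := fun {x u} hx hxt hu huz => by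
    have h1 : x * u * x⁻¹ * u⁻¹ = 1 := by
      refine J ?_ (mul_mem (nQt hxt hu) (inv_mem hu))
      rw [show x * u * x⁻¹ * u⁻¹ = x * (u * x⁻¹ * u⁻¹) by group]
      exact mul_mem hx (p.toCtx.norm huz (inv_mem hx))
    rw [mul_inv_eq_one, mul_inv_eq_iff_eq_mul] at h1
    exact h1
  let y := h⁻¹ * z * h
  have hhz : h⁻¹ * t * h = z := by rw [← hh]; group
  have hy : Commute y z := by
    have := (Commute.conj_iff h⁻¹).mpr hT.1.symm
    rwa [inv_inv, hhz] at this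
  have hyy : y * y = 1 := by
    show h⁻¹ * z * h * (h⁻¹ * z * h) = 1
    rw [show h⁻¹ * z * h * (h⁻¹ * z * h) = h⁻¹ * (z * z) * h by group, p.X.zz]; group
  obtain ⟨f, hf, hfc⟩ := p.five_fixed hy hyy fun h' => zQt (memQt.mpr h')
  have hU : ∀ i, h * f i * h⁻¹ ∈ Qt ∧ Commute (h * f i * h⁻¹) z := fun i => by
    refine ⟨memQt.mpr (by rw [show h⁻¹ * (h * f i * h⁻¹) * h = f i by group]; exact (hfc i).1), ?_⟩
    have := (Commute.conj_iff h).mpr (hfc i).2
    rwa [show h * y * h⁻¹ = z by show h * (h⁻¹ * z * h) * h⁻¹ = z; group] at this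
  have key : ∀ u ∈ Qt, Commute u z → ∃ w ∈ [0, 10, 18, 10 ^^^ 18], ∀ x < 64, cd (p.toCtx.m u) x = rho w x := by
    intro u hu huz
    have hut : Commute u t := XQ.central u hu
    have hus : Commute u p.s := (comU p.hs (hT.2.symm) hu huz).symm
    have huT : p.T u := ⟨huz, hus⟩
    have h1 := p.T_fix huT
    have h18 : sa (p.toCtx.m u) 18 = 18 := sa_of_intertwine h1 (by decide) (by decide) fun x hx => by
      rw [← htm x hx, ← htm _ (cd_lt _ _), ← cd_mul, ← cd_mul, ← p.toCtx.m_mul huz hT.1, ← p.toCtx.m_mul hT.1 huz, hut.eq]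
    have h10 : sa (p.toCtx.m u) 10 = 10 := by
      have hA := p.A_norm huT hq
      have hR := p.R_norm huT hr
      have e : u * q * u⁻¹ * (u * r * u⁻¹) = q * r := by
        rw [show u * q * u⁻¹ * (u * r * u⁻¹) = u * (q * r) * u⁻¹ by group, ← htdef, hut.eq, mul_inv_cancel_right]
      have hm : q⁻¹ * (u * q * u⁻¹) = r * (u * r * u⁻¹)⁻¹ := by
        calc q⁻¹ * (u * q * u⁻¹) = q⁻¹ * (u * q * u⁻¹ * (u * r * u⁻¹)) * (u * r * u⁻¹)⁻¹ := by group
          _ = _ := by rw [e]; group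
      have hE : p.InE (q⁻¹ * (u * q * u⁻¹)) :=
        p.R_cap (by rw [hm]; exact p.R_mul hr (p.R_inv hR)) (mul_mem (inv_mem hq.1) hA.1)
      have := p.α_E hE
      rw [p.α_mul (p.A_inv hq) hA, p.α_inv hq, p.α_conj huT hq, a0] at this
      exact (xor_eq_zero'.mp this).symm
    have hH : ∀ d ∈ W, pB d 10 = false → pB d 18 = false →
        ∃ x, p.A x ∧ p.α x = d ∧ Commute u x := fun d hd da db => by
      obtain ⟨x, hx, hxa⟩ := p.α_surj hd
      exact ⟨x, hx, hxa, (comU hx.1 ((comm_t hx).mpr (by rw [hxa]; exact ⟨da, db⟩)) hu huz).symm⟩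
    have hfix : ∀ w ∈ W, sa (p.toCtx.m u) w = w := fun w hw => by
      obtain ⟨i, hi, d, hd, da, db, rfl⟩ := perp_span w hw
      obtain ⟨x, hx, hxa, hux⟩ := hH d hd da db
      have hd' : sa (p.toCtx.m u) d = d := by
        rw [← hxa, ← p.α_conj huT hx, hux.eq, mul_inv_cancel_right]
      rw [sa_xor, hd']
      simp only [List.mem_cons, List.not_mem_nil, or_false] at hi
      rcases hi with rfl | rfl | rfl | rfl
      · simp [sa, cd_zero, nr]
      · rw [h10]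
      · rw [h18]
      · rw [sa_xor, h10, h18]
    obtain ⟨w, hw, hrho⟩ := rad_rho h1 (rad_of_trivial h1 hfix)
    refine ⟨w, perp_four w hw fun d hd da db => ?_, hrho⟩
    obtain ⟨x, hx, hxa, hux⟩ := hH d hd da db
    have e := p.toCtx.act huz hx.1
    rw [hux.eq, mul_inv_cancel_right, hrho _ (p.π_lt x)] at e
    have h2 := rho_shift w hw _ (p.π_lt x) (p.A_perp hx)
    rw [← e, Nat.xor_self] at h2
    rw [← hxa]
    show pB (nr (p.π x)) w = false
    cases hc : pB (nr (p.π x)) w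
    · rfl
    · rw [hc] at h2; exact absurd h2 (by decide)
  choose w hw hwr using fun i => key _ (hU i).1 (hU i).2
  let g : Fin 5 → {w // w ∈ ([0, 10, 18, 10 ^^^ 18] : List ℕ).toFinset} := fun i => ⟨w i, List.mem_toFinset.mpr (hw i)⟩
  have hg : Function.Injective g := fun i j e => by
    have e' : w i = w j := congrArg Subtype.val e
    have hm : p.toCtx.m (h * f i * h⁻¹) = p.toCtx.m (h * f j * h⁻¹) := cd_ext fun x hx => by rw [hwr i x hx, hwr j x hx, e']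
    have hQ : (h * f i * h⁻¹) * (h * f j * h⁻¹)⁻¹ ∈ p.Q := (p.toCtx.m_one_iff ((hU i).2.mul_left (hU j).2.inv_left)).mp (by
      rw [p.toCtx.m_mul (hU i).2 (hU j).2.inv_left, p.toCtx.m_inv (hU j).2, hm, mul_inv_cancel])
    have := J hQ (mul_mem (hU i).1 (inv_mem (hU j).1))
    exact hf (mul_left_cancel (mul_right_cancel (mul_inv_eq_one.mp this)))
  have := Fintype.card_le_of_injective g hg
  rw [Fintype.card_coe, Fintype.card_fin] at this
  revert this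
  decide

theorem involution_into_C (p : Pt z) {y : G} (hy : y * y = 1) : ∃ g, Commute (g * y * g⁻¹) z := by
  classical
  haveI : Fact (Nat.Prime 2) := ⟨Nat.prime_two⟩
  obtain ⟨P0⟩ : Nonempty (Sylow 2 ↥(centralizer ({z} : Set G))) := inferInstance
  haveI hQn : (p.Q.subgroupOf (centralizer ({z} : Set G))).Normal := ⟨fun n hn c => p.toCtx.norm (Ctx.mem_C.mp c.2) hn⟩
  have hQP : p.Q.subgroupOf (centralizer ({z} : Set G)) ≤ (P0 : Subgroup ↥(centralizer ({z} : Set G))) :=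
    IsPGroup.le_sylow_of_normal (N := p.Q.subgroupOf (centralizer ({z} : Set G)))
      (p.X.isP.comap_of_injective _ Subtype.val_injective) P0
  obtain ⟨S, hS⟩ := ((P0.2.map (centralizer ({z} : Set G)).subtype)).exists_le_sylow
  have hQS : p.Q ≤ S := fun q hq => hS ⟨⟨q, p.toCtx.q_C hq⟩, hQP hq, rfl⟩
  haveI : Nontrivial ↥(S : Subgroup G) := nontrivial_iff.mpr ⟨⟨z, hQS p.X.mem⟩, 1, fun e => p.X.ne (congrArg Subtype.val e)⟩
  haveI := S.2.center_nontrivial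
  obtain ⟨⟨u, hu⟩, hu1⟩ := exists_ne (1 : center ↥(S : Subgroup G))
  have huQ : (u : G) ∈ p.Q := p.cQ (mem_centralizer_iff.mpr fun q hq =>
    congrArg Subtype.val (mem_center_iff.mp hu ⟨q, hQS hq⟩))
  have hz : (u : G) = z := (p.X.cen _ huQ fun q hq => congrArg Subtype.val (mem_center_iff.mp hu ⟨q, hQS hq⟩)).resolve_left
    fun e => hu1 (Subtype.ext (Subtype.ext e))
  obtain ⟨S1, hS1⟩ := (show IsPGroup 2 ↥(zpowers y) from fun x => ⟨1, by
    obtain ⟨i, hi⟩ := mem_zpowers_iff.mp x.2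
    refine Subtype.ext ?_
    show (x : G) ^ 2 = 1
    rw [← hi, ← zpow_natCast, ← zpow_mul, mul_comm, zpow_mul, zpow_natCast, pow_two, hy, one_zpow]⟩).exists_le_sylow
  obtain ⟨g, rfl⟩ := MulAction.exists_smul_eq G S1 S
  refine ⟨g, ?_⟩
  have hg : g * y * g⁻¹ ∈ ((g • S1 : Sylow 2 G) : Subgroup G) := by
    rw [Sylow.coe_subgroup_smul]
    exact ⟨y, hS1 (mem_zpowers y), rfl⟩
  rw [← hz]
  exact congrArg Subtype.val (mem_center_iff.mp hu ⟨_, hg⟩)

end Pt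

/-- Exactly two classes of involutions. -/
theorem two_classes (c : Ctx z) : ∃ a b : G, orderOf a = 2 ∧ orderOf b = 2 ∧ ¬ IsConj a b ∧
    ∀ x : G, orderOf x = 2 → IsConj x a ∨ IsConj x b := by
  haveI : Fact (Nat.Prime 2) := ⟨Nat.prime_two⟩
  obtain ⟨p⟩ := c.exists_pt
  obtain ⟨q, r, hq, hr, a0, b0⟩ := p.exists_tt
  have hne := p.tt_not_conj hq hr a0 b0
  refine ⟨z, q * r, p.hz, orderOf_eq_prime ?_ ?_, hne, fun x hx => ?_⟩
  · rw [pow_two]; exact (p.prod_sq hq hr).mpr (by rw [a0, b0]; decide)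
  · intro e
    have hrQ : r ∈ p.Q := by
      rw [show r = q⁻¹ * (q * r) by group, e, mul_one]; exact inv_mem hq.1
    rw [(p.β_zero hr).mpr hrQ] at b0
    exact absurd b0 (by decide)
  · have hxx : x * x = 1 := by rw [← pow_two, ← hx, pow_orderOf_eq_one]
    obtain ⟨g, hg⟩ := p.involution_into_C hxx
    have hx1 : g * x * g⁻¹ ≠ 1 := fun e => by rw [conj_eq_one_iff.mp e, orderOf_one] at hx; norm_num at hx
    have hcj : IsConj x (g * x * g⁻¹) := isConj_iff.mpr ⟨g, rfl⟩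
    rcases p.central_involutions hg (by rw [show g * x * g⁻¹ * (g * x * g⁻¹) = g * (x * x) * g⁻¹ by group, hxx, mul_one,
        mul_inv_cancel]) hx1 hq hr a0 b0 with h | h
    · exact Or.inl (hcj.trans h.symm)
    · exact Or.inr (hcj.trans h.symm)

end Cfsg.Lib.SuzukiType
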