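import Cfsg.Agent.SuzukiType.Setting

/-!
The centralizer of a pair of commuting conjugates `z`, `s` with `s` in the extraspecial subgroup at `z`.
-/

set_option autoImplicit false
set_option maxRecDepth 100000
set_option maxHeartbeats 1000000
set_option linter.unusedSectionVars false
set_option linter.style.haveILetI false

namespace Cfsg.Lib.SuzukiType

open Subgroup Cfsg.Lib.SuzukiType.Code
open Cfsg.Lib.LargeExtra (X2 mem_map_conj mem_conj_of_mem mem_zpowers_two)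
open scoped commutatorElement

universe u

variable {G : Type u} [Group G] [Finite G] {z : G}

theorem low_code : ∀ y < 64, pB 1 y = false → nr y = 0 → y = 0 ∨ y = 1 := by decide +kernel

theorem rho_shift : ∀ w ∈ W, ∀ y < 64, pB 1 y = false →
    rho w y ^^^ y = bif pB (nr y) w then 1 else 0 := by decide +kernel

theorem rho_fix : ∀ w ∈ W, ∀ y < 64, w ≠ 0 → rho w y ^^^ y ≤ 1 → pB 1 y = false := by decide +kernel

theorem rho_zero : ∀ y < 64, rho 0 y = y := by decide +kernel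

theorem W_xor : ∀ a ∈ W, ∀ b ∈ W, a ^^^ b ∈ W := by decide +kernel

theorem two_sing : ∀ a ∈ W, ∀ b ∈ W, a ≠ 0 → b ≠ 0 → qB a = false → qB b = false →
    (pB a b = false ↔ a = b) := by decide +kernel

namespace Ctx

variable (c : Ctx z)

theorem mem_C {x : G} : x ∈ centralizer ({z} : Set G) ↔ Commute x z := mem_centralizer_singleton_iff

theorem q_C {q : G} (hq : q ∈ c.Q) : q ∈ centralizer ({z} : Set G) := mem_C.mpr (c.X.central q hq)

/-- The image of an element commuting with `z`. -/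
noncomputable def m (x : G) : O6 :=
  @dite O6 (x ∈ centralizer ({z} : Set G)) (Classical.propDecidable _) (fun h => c.μ ⟨x, h⟩) fun _ => 1

theorem m_mul {x y : G} (hx : Commute x z) (hy : Commute y z) : c.m (x * y) = c.m x * c.m y := by
  classical
  rw [m, m, m, dif_pos (mem_C.mpr hx), dif_pos (mem_C.mpr hy), dif_pos (mem_C.mpr (hx.mul_left hy)), ← map_mul]
  rfl

theorem m_one_iff {x : G} (hx : Commute x z) : c.m x = 1 ↔ x ∈ c.Q := by
  classical
  rw [m, dif_pos (mem_C.mpr hx)]; exact c.ker _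

theorem m_one : c.m 1 = 1 := (c.m_one_iff (Commute.one_left z)).mpr (one_mem _)

theorem m_inv {x : G} (hx : Commute x z) : c.m x⁻¹ = (c.m x)⁻¹ := by
  refine eq_inv_of_mul_eq_one_left ?_
  rw [← c.m_mul hx.inv_left hx, inv_mul_cancel, m_one]

theorem m_mem {x : G} (hx : Commute x z) : c.m x ∈ Om := by
  classical
  rw [m, dif_pos (mem_C.mpr hx), ← c.rng]; exact ⟨_, rfl⟩

theorem m_surj {h : O6} (hh : h ∈ Om) : ∃ x, Commute x z ∧ c.m x = h := by
  classical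
  obtain ⟨x, rfl⟩ := (c.rng ▸ hh : h ∈ c.μ.range)
  exact ⟨x, mem_C.mp x.2, by rw [m, dif_pos x.2]⟩

theorem norm {x q : G} (hx : Commute x z) (hq : q ∈ c.Q) : x * q * x⁻¹ ∈ c.Q :=
  (mem_normalizer_iff.mp (c.nQ (mem_C.mpr hx)) q).mp hq

theorem act {x q : G} (hx : Commute x z) (hq : q ∈ c.Q) : c.π (x * q * x⁻¹) = cd (c.m x) (c.π q) := by
  classical
  rw [m, dif_pos (mem_C.mpr hx)]; exact c.π_act ⟨x, mem_C.mpr hx⟩ q hq

theorem pi_one : c.π 1 = 0 := (c.π_zero 1 (one_mem _)).mpr (Or.inl rfl)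

theorem pi_z : c.π z = 0 := (c.π_zero z c.X.mem).mpr (Or.inr rfl)

theorem pi_inv {q : G} (hq : q ∈ c.Q) : c.π q⁻¹ = c.π q := by
  have h := c.π_mul q hq q⁻¹ (inv_mem hq)
  rw [mul_inv_cancel, pi_one] at h
  exact (xor_eq_zero'.mp h.symm).symm

theorem pi_eq {a b : G} (ha : a ∈ c.Q) (hb : b ∈ c.Q) (h : c.π a = c.π b) : a = b ∨ a = z * b := by
  have h2 := (c.π_zero _ (mul_mem ha (inv_mem hb))).mp (by rw [c.π_mul _ ha _ (inv_mem hb), c.pi_inv hb, h, Nat.xor_self])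
  rcases h2 with e | e
  · exact Or.inl (mul_inv_eq_one.mp e)
  · exact Or.inr (mul_inv_eq_iff_eq_mul.mp e)

theorem card_Q : 8 < Nat.card c.Q := by rw [c.card]; norm_num

end Ctx

/-- A commuting conjugate of `z` in `Q` with an element exchanging the two. -/
structure Pt (z : G) extends Ctx z where
  s : G
  hs : s ∈ Q
  πs : π s = 1
  k : G
  kz : k * z * k⁻¹ = s
  ks : k * s * k⁻¹ = z

namespace Ctx

variable (c : Ctx z)

theorem conj_to_code {x y : G} (hx : x ∈ c.Q) (hy : y ∈ c.Q) (hy0 : c.π y ≠ 0) (h : c.π x = c.π y) :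
    ∃ q ∈ c.Q, q * y * q⁻¹ = x := by
  rcases c.pi_eq hx hy h with e | e
  · exact ⟨1, one_mem _, by rw [e]; simp⟩
  · obtain ⟨q, hq, hqy⟩ := c.X.exists_swap hy fun hm => hy0 (by
      rcases (mem_zpowers_two c.X.zz).mp hm with r | r <;> rw [r]
      · exact c.pi_one
      · exact c.pi_z)
    exact ⟨q, hq, by rw [hqy, e]⟩

theorem exists_pt_ctx (c : Ctx z) : ∃ p : Pt z, p.toCtx = c := by
  obtain ⟨g, hgQ, hgz⟩ := c.nwc
  have hz1 : z ≠ 1 := c.X.ne
  obtain ⟨s, hs, hπs⟩ := c.π_surj 1 (by norm_num)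
  have move : ∀ x ∈ c.Q, x * x = 1 → x ≠ 1 → x ≠ z → ∃ d, Commute d z ∧ d * s * d⁻¹ = x := by
    intro x hx hxx hx1 hxz
    have h0 : c.π x ≠ 0 := fun e => by rcases (c.π_zero x hx).mp e with r | r <;> contradiction
    obtain ⟨h, hh, he⟩ := trans_sing (c.π_lt x) h0 ((c.π_sq x hx).mp hxx)
    obtain ⟨d, hd, hdm⟩ := c.m_surj hh
    have e1 : c.π (d * s * d⁻¹) = c.π x := by rw [c.act hd hs, hdm, hπs, he]
    obtain ⟨q, hq, hqe⟩ := c.conj_to_code hx (c.norm hd hs) (by rw [e1]; exact h0) e1.symm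
    refine ⟨q * d, (c.X.central q hq).mul_left hd, ?_⟩
    rw [show q * d * s * (q * d)⁻¹ = q * (d * s * d⁻¹) * q⁻¹ by group, hqe]
  have hzz : z * z = 1 := c.X.zz
  have conj_inv' : ∀ u : G, u * z * u⁻¹ * (u * z * u⁻¹) = 1 := fun u => by
    rw [show u * z * u⁻¹ * (u * z * u⁻¹) = u * (z * z) * u⁻¹ by group, hzz, mul_one, mul_inv_cancel]
  obtain ⟨d, hd, hde⟩ := move _ hgQ (conj_inv' g) (by simp [hz1]) hgz
  set g' := d⁻¹ * g with hg'
  have hg's : g' * z * g'⁻¹ = s := by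
    rw [hg', show d⁻¹ * g * z * (d⁻¹ * g)⁻¹ = d⁻¹ * (g * z * g⁻¹) * d by group, ← hde]; group
  have hsz : s ≠ z := fun e => by rw [e, c.pi_z] at hπs; exact absurd hπs (by norm_num)
  have hgi := mem_conj_of_mem c.X c.cQ c.nQ c.card_Q (g := g') (by rw [hg's]; exact hs) (by rw [hg's]; exact hsz)
  have hgi' : g'⁻¹ * z * g'⁻¹⁻¹ = g'⁻¹ * z * g' := by rw [inv_inv]
  obtain ⟨d', hd', hde'⟩ := move _ hgi (by rw [← hgi']; exact conj_inv' _) (fun e => hz1 ((show z = g' * (g'⁻¹ * z * g') * g'⁻¹ by group).trans (by rw [e, mul_one, mul_inv_cancel]))) fun e => hsz (by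
    have : g' * (g'⁻¹ * z * g') * g'⁻¹ = g' * z * g'⁻¹ := by rw [e]
    rw [hg's] at this
    rw [← this]; group)
  refine ⟨{ toCtx := c, s := s, hs := hs, πs := hπs, k := g' * d', kz := ?_, ks := ?_ }, rfl⟩
  · rw [show g' * d' * z * (g' * d')⁻¹ = g' * (d' * z * d'⁻¹) * g'⁻¹ by group, hd'.eq, mul_inv_cancel_right, hg's]
  · rw [show g' * d' * s * (g' * d')⁻¹ = g' * (d' * s * d'⁻¹) * g'⁻¹ by group, hde']; group

theorem exists_pt (c : Ctx z) : Nonempty (Pt z) := ⟨c.exists_pt_ctx.choose⟩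

end Ctx

namespace Pt

variable (p : Pt z)

theorem ss : p.s * p.s = 1 := (p.π_sq p.s p.hs).mpr (by rw [p.πs]; decide)

theorem s_ne : p.s ≠ 1 ∧ p.s ≠ z :=
  ⟨fun e => by have h := p.πs; rw [e, p.toCtx.pi_one] at h; exact absurd h (by norm_num),
    fun e => by have h := p.πs; rw [e, p.toCtx.pi_z] at h; exact absurd h (by norm_num)⟩

theorem sz : Commute p.s z := p.X.central _ p.hs

/-- The pair centralizer. -/
def T (x : G) : Prop := Commute x z ∧ Commute x p.s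

/-- The conjugate of `Q` at `s`. -/
def Q' : Subgroup G := p.Q.map (MulAut.conj p.k).toMonoidHom

theorem mem_Q' {x : G} : x ∈ p.Q' ↔ p.k⁻¹ * x * p.k ∈ p.Q := mem_map_conj

theorem X' : X2 p.Q' p.s := by
  have := p.X.conj p.k
  rwa [p.kz] at this

/-- The part of the conjugate in the centralizer. -/
def R (x : G) : Prop := x ∈ p.Q' ∧ Commute x z

/-- The part of `Q` in the centralizer. -/
def A (x : G) : Prop := x ∈ p.Q ∧ Commute x p.s

/-- The four-group. -/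
def InE (x : G) : Prop := x = 1 ∨ x = z ∨ x = p.s ∨ x = z * p.s

theorem A_T {x : G} (h : p.A x) : p.T x := ⟨p.X.central x h.1, h.2⟩

theorem R_T {x : G} (h : p.R x) : p.T x := ⟨h.2, p.X'.central x h.1⟩

theorem kinv_z : p.k⁻¹ * z * p.k = p.s :=
  calc p.k⁻¹ * z * p.k = p.k⁻¹ * (p.k * p.s * p.k⁻¹) * p.k := by rw [p.ks]
    _ = p.s := by group

theorem kinv_s : p.k⁻¹ * p.s * p.k = z :=
  calc p.k⁻¹ * p.s * p.k = p.k⁻¹ * (p.k * z * p.k⁻¹) * p.k := by rw [p.kz]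
    _ = z := by group

theorem R_conj {x : G} : p.R x ↔ p.A (p.k⁻¹ * x * p.k) := by
  constructor
  · rintro ⟨h1, h2⟩
    refine ⟨p.mem_Q'.mp h1, ?_⟩
    rw [← p.kinv_z]
    have := (Commute.conj_iff p.k⁻¹).mpr h2
    simpa using this
  · rintro ⟨h1, h2⟩
    refine ⟨p.mem_Q'.mpr h1, ?_⟩
    rw [← p.kinv_z] at h2
    have := (Commute.conj_iff p.k).mpr h2
    simpa [mul_assoc] using this

theorem A_conj {x : G} : p.A x ↔ p.R (p.k * x * p.k⁻¹) := by
  rw [p.R_conj, show p.k⁻¹ * (p.k * x * p.k⁻¹) * p.k = x by group]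

theorem A_one : p.A 1 := ⟨one_mem _, Commute.one_left _⟩

theorem A_mul {a b : G} (ha : p.A a) (hb : p.A b) : p.A (a * b) := ⟨mul_mem ha.1 hb.1, ha.2.mul_left hb.2⟩

theorem A_inv {a : G} (ha : p.A a) : p.A a⁻¹ := ⟨inv_mem ha.1, ha.2.inv_left⟩

theorem R_mul {a b : G} (ha : p.R a) (hb : p.R b) : p.R (a * b) := ⟨mul_mem ha.1 hb.1, ha.2.mul_left hb.2⟩

theorem R_inv {a : G} (ha : p.R a) : p.R a⁻¹ := ⟨inv_mem ha.1, ha.2.inv_left⟩

theorem A_norm {t a : G} (ht : p.T t) (ha : p.A a) : p.A (t * a * t⁻¹) :=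
  ⟨p.toCtx.norm ht.1 ha.1, by
    have := (Commute.conj_iff t).mpr ha.2
    rwa [ht.2.eq, mul_inv_cancel_right] at this⟩

theorem R_norm {t r : G} (ht : p.T t) (hr : p.R r) : p.R (t * r * t⁻¹) := by
  have h1 : p.T (p.k⁻¹ * t * p.k) := by
    have a := (Commute.conj_iff p.k⁻¹).mpr ht.2
    have b := (Commute.conj_iff p.k⁻¹).mpr ht.1
    rw [inv_inv, p.kinv_s] at a
    rw [inv_inv, p.kinv_z] at b
    exact ⟨a, b⟩
  rw [p.R_conj, show p.k⁻¹ * (t * r * t⁻¹) * p.k = p.k⁻¹ * t * p.k * (p.k⁻¹ * r * p.k) * (p.k⁻¹ * t * p.k)⁻¹ by group]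
  exact p.A_norm h1 (p.R_conj.mp hr)

theorem T_one : p.T 1 := ⟨Commute.one_left _, Commute.one_left _⟩

theorem T_inv {t : G} (ht : p.T t) : p.T t⁻¹ := ⟨ht.1.inv_left, ht.2.inv_left⟩

theorem T_mul {t u : G} (ht : p.T t) (hu : p.T u) : p.T (t * u) := ⟨ht.1.mul_left hu.1, ht.2.mul_left hu.2⟩

/-- An element of the pair centralizer fixes the point. -/
theorem T_fix {t : G} (ht : p.T t) : cd (p.toCtx.m t) 1 = 1 := by
  rw [← p.πs, ← p.toCtx.act ht.1 p.hs, ht.2.eq, mul_inv_cancel_right]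

/-- Lifting the stabiliser of the point. -/
theorem T_lift {h : O6} (hh : h ∈ Om) (h1 : cd h 1 = 1) : ∃ t, p.T t ∧ p.toCtx.m t = h := by
  obtain ⟨d, hd, hdm⟩ := p.toCtx.m_surj hh
  obtain ⟨q, hq, hqe⟩ := p.toCtx.conj_to_code p.hs (p.toCtx.norm hd p.hs)
    (by rw [p.toCtx.act hd p.hs, hdm, p.πs, h1]; norm_num) (by rw [p.toCtx.act hd p.hs, hdm, p.πs, h1])
  refine ⟨q * d, ⟨(p.X.central q hq).mul_left hd, ?_⟩, ?_⟩
  · refine mul_inv_eq_iff_eq_mul.mp ?_
    rw [show q * d * p.s * (q * d)⁻¹ = q * (d * p.s * d⁻¹) * q⁻¹ by group, hqe]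
  · rw [p.toCtx.m_mul (p.X.central q hq) hd, (p.toCtx.m_one_iff (p.X.central q hq)).mpr hq, one_mul, hdm]

theorem A_perp {a : G} (ha : p.A a) : pB 1 (p.π a) = false := by
  rw [← p.πs, pB_comm]
  exact (p.π_comm a ha.1 p.s p.hs).mp ha.2

theorem A_of_perp {a : G} (ha : a ∈ p.Q) (h : pB 1 (p.π a) = false) : p.A a :=
  ⟨ha, (p.π_comm a ha p.s p.hs).mpr (by rw [p.πs, pB_comm]; exact h)⟩

/-- The vector of an element of `A`. -/
def α (a : G) : ℕ := nr (p.π a)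

theorem α_mem (a : G) : p.α a ∈ W := nr_mem _ (p.π_lt a)

theorem α_mul {a b : G} (ha : p.A a) (hb : p.A b) : p.α (a * b) = p.α a ^^^ p.α b := by
  rw [α, p.π_mul a ha.1 b hb.1, nr_xor]; rfl

theorem α_inv {a : G} (ha : p.A a) : p.α a⁻¹ = p.α a := by rw [α, p.toCtx.pi_inv ha.1]; rfl

theorem E_A {e : G} (he : p.InE e) : p.A e := by
  rcases he with rfl | rfl | rfl | rfl
  · exact p.A_one
  · exact ⟨p.X.mem, p.sz.symm⟩
  · exact ⟨p.hs, Commute.refl _⟩
  · exact ⟨mul_mem p.X.mem p.hs, p.sz.symm.mul_left (Commute.refl _)⟩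

theorem α_E {e : G} (he : p.InE e) : p.α e = 0 := by
  rcases he with rfl | rfl | rfl | rfl
  · rw [α, p.toCtx.pi_one]; rfl
  · rw [α, p.toCtx.pi_z]; rfl
  · rw [α, p.πs]; rfl
  · rw [α, p.π_mul z p.X.mem p.s p.hs, p.toCtx.pi_z, p.πs]; rfl

theorem α_zero {a : G} (ha : p.A a) (h : p.α a = 0) : p.InE a := by
  rcases low_code _ (p.π_lt a) (p.A_perp ha) h with e | e
  · rcases (p.π_zero a ha.1).mp e with r | r
    · exact Or.inl r
    · exact Or.inr (Or.inl r)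
  · rcases p.toCtx.pi_eq ha.1 p.hs (e.trans p.πs.symm) with r | r
    · exact Or.inr (Or.inr (Or.inl r))
    · exact Or.inr (Or.inr (Or.inr r))

theorem α_conj {t a : G} (ht : p.T t) (ha : p.A a) : p.α (t * a * t⁻¹) = sa (p.toCtx.m t) (p.α a) := by
  rw [α, α, p.toCtx.act ht.1 ha.1, sa_nr (p.T_fix ht) (p.π_lt a) (p.A_perp ha)]; rfl

theorem α_surj {w : ℕ} (hw : w ∈ W) : ∃ a, p.A a ∧ p.α a = w := by
  obtain ⟨hl, hp, hn⟩ := W_lt w hw
  obtain ⟨a, ha, e⟩ := p.π_surj w hl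
  exact ⟨a, p.A_of_perp ha (by rw [e]; exact hp), by rw [α, e, hn]⟩

theorem α_sq {a : G} (ha : p.A a) : a * a = 1 ↔ qB (p.α a) = false := by
  rw [p.π_sq a ha.1, α, (nr_facts _ (p.π_lt a) (p.A_perp ha)).2]

theorem α_comm {a b : G} (ha : p.A a) (hb : p.A b) : Commute a b ↔ pB (p.α a) (p.α b) = false := by
  rw [p.π_comm a ha.1 b hb.1, α, α, nr_p (p.π_lt a) (p.π_lt b) (p.A_perp ha) (p.A_perp hb)]

theorem E_cases {e : G} (he : p.InE e) : ∀ f, p.InE f → p.InE (e * f) := fun f hf => by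
  exact p.α_zero (p.A_mul (p.E_A he) (p.E_A hf)) (by rw [p.α_mul (p.E_A he) (p.E_A hf), p.α_E he, p.α_E hf]; rfl)

theorem E_inv {e : G} (he : p.InE e) : p.InE e⁻¹ :=
  p.α_zero (p.A_inv (p.E_A he)) (by rw [p.α_inv (p.E_A he), p.α_E he])

theorem E_R {e : G} (he : p.InE e) : p.R e := by
  have hz : z ∈ p.Q' := p.mem_Q'.mpr (by rw [p.kinv_z]; exact p.hs)
  have hs' : p.s ∈ p.Q' := p.X'.mem
  rcases he with rfl | rfl | rfl | rfl
  · exact ⟨one_mem _, Commute.one_left _⟩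
  · exact ⟨hz, Commute.refl _⟩
  · exact ⟨hs', p.sz⟩
  · exact ⟨mul_mem hz hs', (Commute.refl z).mul_left p.sz⟩

theorem E_central {e t : G} (he : p.InE e) (ht : p.T t) : Commute t e := by
  rcases he with rfl | rfl | rfl | rfl
  · exact Commute.one_right _
  · exact ht.1
  · exact ht.2
  · exact ht.1.mul_right ht.2

theorem E_sq {e : G} (he : p.InE e) : e * e = 1 := by
  refine (p.α_sq (p.E_A he)).mpr ?_
  rw [p.α_E he]; decide

theorem zs_ne : z * p.s ≠ 1 ∧ z * p.s ≠ z ∧ z * p.s ≠ p.s :=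
  ⟨fun e => p.s_ne.2 ((eq_inv_of_mul_eq_one_right e).trans p.X.inv_z),
    fun e => p.s_ne.1 (mul_eq_left.mp e), fun e => p.X.ne (mul_eq_right.mp e)⟩

/-- The vector of an element of `R`. -/
noncomputable def β (r : G) : ℕ := nr (cd (p.toCtx.m r) 4)

theorem β_mem (r : G) : p.β r ∈ W := nr_mem _ (cd_lt _ _)

theorem R_trivial {r : G} (hr : p.R r) : ∀ w ∈ W, sa (p.toCtx.m r) w = w := by
  by_contra hne
  push Not at hne
  have h1 := p.T_fix (p.R_T hr)
  have hsq : r * r ∈ p.Q := by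
    rcases p.X'.sq r hr.1 with e | e <;> rw [e]
    · exact one_mem _
    · exact p.hs
  have hinv : ∀ w ∈ W, sa (p.toCtx.m r) (sa (p.toCtx.m r) w) = w := fun w hw => by
    obtain ⟨hl, hp, hn⟩ := W_lt w hw
    rw [← sa_mul h1 h1 hl hp, ← p.toCtx.m_mul hr.2 hr.2, (p.toCtx.m_one_iff (hr.2.mul_left hr.2)).mpr hsq, sa,
      cd_one hl, hn]
  obtain ⟨h, hh, hh1, hnc⟩ := exists_noncomm h1 hinv hne
  obtain ⟨t, ht, rfl⟩ := p.T_lift hh hh1
  have hr2 := p.R_norm ht hr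
  refine hnc ?_
  rw [← p.toCtx.m_mul ht.1 hr.2, ← p.toCtx.m_inv ht.1, ← p.toCtx.m_mul (ht.1.mul_left hr.2) ht.1.inv_left,
    ← p.toCtx.m_mul hr.2 hr2.2, ← p.toCtx.m_mul hr2.2 hr.2]
  rcases p.X'.comm r hr.1 _ hr2.1 with e | e
  · rw [(commutatorElement_eq_one_iff_commute.mp e).eq]
  · rw [commutatorElement_def, mul_inv_eq_iff_eq_mul, mul_inv_eq_iff_eq_mul] at e
    rw [e, mul_assoc, p.toCtx.m_mul p.sz (hr2.2.mul_left hr.2), (p.toCtx.m_one_iff p.sz).mpr p.hs, one_mul]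

theorem pB_one_xor : ∀ a < 64, ∀ b < 64, pB 1 (a ^^^ b) = (pB 1 a ^^ pB 1 b) := by decide +kernel

theorem rad_of_trivial {g : O6} (h1 : cd g 1 = 1) (h : ∀ w ∈ W, sa g w = w) : Rad g 1 := fun x hx hp => by
  have e := sa_nr h1 hx hp
  rw [h _ (nr_mem x hx), sa] at e
  refine low_code _ (Nat.xor_lt_two_pow (cd_lt g x) hx : _ < 2 ^ 6) ?_ ?_
  · rw [pB_one_xor _ (cd_lt g x) x hx, perp_cd h1 hx hp, hp]; rfl
  · rw [nr_xor, ← e, Nat.xor_self]

theorem m_rho {r : G} (hr : p.R r) : ∀ x < 64, cd (p.toCtx.m r) x = rho (p.β r) x := by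
  have h1 := p.T_fix (p.R_T hr)
  obtain ⟨w, hw, e⟩ := rad_rho h1 (rad_of_trivial h1 (p.R_trivial hr))
  have : p.β r = w := by
    rw [β, e 4 (by norm_num), (rho_facts w hw 4 (by norm_num) (by decide)).1, show nr 4 = 0 from rfl, Nat.zero_xor]
  rw [this]
  exact e

theorem β_mul {a b : G} (ha : p.R a) (hb : p.R b) : p.β (a * b) = p.β a ^^^ p.β b := by
  have hp : pB 1 (cd (p.toCtx.m b) 4) = true := by
    conv_lhs => rw [← p.T_fix (p.R_T hb)]
    rw [cd_p _ (by norm_num) (by norm_num)]; decide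
  rw [β, p.toCtx.m_mul ha.2 hb.2, cd_mul, p.m_rho ha _ (cd_lt _ _), (rho_facts _ (p.β_mem a) _ (cd_lt _ _) hp).1,
    Nat.xor_comm]
  rfl

theorem β_zero {r : G} (hr : p.R r) : p.β r = 0 ↔ r ∈ p.Q := by
  rw [← p.toCtx.m_one_iff hr.2]
  constructor
  · intro h
    refine cd_ext fun x hx => ?_
    rw [p.m_rho hr x hx, h, rho_zero x hx, cd_one hx]
  · intro h
    rw [β, h, cd_one (by norm_num)]; rfl

theorem β_E {e : G} (he : p.InE e) : p.β e = 0 := (p.β_zero (p.E_R he)).mpr (p.E_A he).1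

theorem β_conj {t r : G} (ht : p.T t) (hr : p.R r) : p.β (t * r * t⁻¹) = sa (p.toCtx.m t) (p.β r) := by
  refine (sa_of_intertwine (p.T_fix ht) (p.β_mem r) (p.β_mem _) fun x hx => ?_).symm
  rw [← p.m_rho hr x hx, ← p.m_rho (p.R_norm ht hr) _ (cd_lt _ _), ← cd_mul, ← cd_mul,
    ← p.toCtx.m_mul ht.1 hr.2, ← p.toCtx.m_mul (p.R_norm ht hr).2 ht.1, inv_mul_cancel_right]

theorem not_comm : ∃ a b, p.A a ∧ p.A b ∧ ¬ Commute a b := by
  obtain ⟨a, ha, ea⟩ := p.α_surj (w := 2) (by decide)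
  obtain ⟨b, hb, eb⟩ := p.α_surj (w := 8) (by decide)
  exact ⟨a, b, ha, hb, fun h => absurd ((p.α_comm ha hb).mp h) (by rw [ea, eb]; decide)⟩

theorem QQ'_elem {x : G} (hx : x ∈ p.Q) (hx' : x ∈ p.Q') : x * x = 1 := by
  rcases p.X.sq x hx with e | e
  · exact e
  · rcases p.X'.sq x hx' with e' | e'
    · exact e'
    · exact absurd (e'.symm.trans e) p.s_ne.2

theorem β_surj {w : ℕ} (hw : w ∈ W) : ∃ r, p.R r ∧ p.β r = w := by
  let I := fun v => ∃ r, p.R r ∧ p.β r = v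
  have hI0 : I 0 := ⟨1, p.E_R (Or.inl rfl), p.β_E (Or.inl rfl)⟩
  have hIx : ∀ a b, I a → I b → I (a ^^^ b) := by
    rintro a b ⟨r, hr, rfl⟩ ⟨r', hr', rfl⟩
    exact ⟨r * r', p.R_mul hr hr', p.β_mul hr hr'⟩
  have hIs : ∀ h ∈ Om, cd h 1 = 1 → ∀ v, I v → I (sa h v) := by
    rintro h hh h1 v ⟨r, hr, rfl⟩
    obtain ⟨t, ht, rfl⟩ := p.T_lift hh h1
    exact ⟨_, p.R_norm ht hr, p.β_conj ht hr⟩
  obtain ⟨w0, hI, hw0, hne⟩ : ∃ w0, I w0 ∧ w0 ∈ W ∧ w0 ≠ 0 := by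
    by_contra hall
    push Not at hall
    obtain ⟨a, b, ha, hb, hab⟩ := p.not_comm
    have hin : ∀ x, p.A x → p.k * x * p.k⁻¹ ∈ p.Q := fun x hx =>
      (p.β_zero (p.A_conj.mp hx)).mp (hall _ ⟨_, p.A_conj.mp hx, rfl⟩ (p.β_mem _))
    have e1 : ∀ x, p.A x → x * x = 1 := fun x hx => by
      have := p.QQ'_elem (hin x hx) (p.A_conj.mp hx).1
      rw [show p.k * x * p.k⁻¹ * (p.k * x * p.k⁻¹) = p.k * (x * x) * p.k⁻¹ by group, conj_eq_one_iff] at this
      exact this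
    refine hab ?_
    have e2 := e1 _ (p.A_mul ha hb)
    have i1 := inv_eq_of_mul_eq_one_right (e1 a ha)
    have i2 := inv_eq_of_mul_eq_one_right (e1 b hb)
    have i3 := inv_eq_of_mul_eq_one_right e2
    rw [mul_inv_rev, i1, i2] at i3
    exact i3.symm
  have horb : ∀ v ∈ W, v = 0 ∨ qB v = qB w0 → I v := by
    intro v hv h
    rcases eq_or_ne v 0 with rfl | hv0
    · exact hI0
    have hq := h.resolve_left hv0
    have back : ∀ {h : O6} {u : ℕ}, h ∈ Om → cd h 1 = 1 → u ∈ W → I (sa h u) → I u := by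
      intro h u hh h1 hu hIu
      have h1i : cd h⁻¹ 1 = 1 := by conv_lhs => rw [← h1, cd_inv h (by norm_num)]
      have := hIs _ (inv_mem hh) h1i _ hIu
      obtain ⟨hl, hp, hn⟩ := W_lt u hu
      rwa [← sa_mul h1i h1 hl hp, inv_mul_cancel, sa, cd_one hl, hn] at this
    cases hq0 : qB w0
    · obtain ⟨h1, hh1, f1, e1⟩ := trans_w5 hw0 hq0 hne
      obtain ⟨h2, hh2, f2, e2⟩ := trans_w5 hv (hq.trans hq0) hv0
      rw [← e2]
      exact hIs _ hh2 f2 _ (back hh1 f1 (by decide) (by rw [e1]; exact hI))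
    · obtain ⟨h1, hh1, f1, e1⟩ := trans_w10 hw0 hq0
      obtain ⟨h2, hh2, f2, e2⟩ := trans_w10 hv (hq.trans hq0)
      rw [← e2]
      exact hIs _ hh2 f2 _ (back hh1 f1 (by decide) (by rw [e1]; exact hI))
  obtain ⟨a, ha, b, hb, ea, eb, rfl⟩ := span_orbit (qB w0) w hw
  exact hIx a b (horb a ha ea) (horb b hb eb)

theorem card_A : Nat.card {x // p.A x} ≤ 64 := by
  have h : (p.Q ⊓ centralizer ({p.s} : Set G)) < p.Q := by
    refine lt_of_le_of_ne inf_le_left fun e => ?_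
    obtain ⟨a, ha, ea⟩ := p.π_surj 4 (by norm_num)
    have := (e.ge ha).2
    have h2 := p.A_perp ⟨ha, mem_centralizer_singleton_iff.mp this⟩
    rw [ea] at h2
    exact absurd h2 (by decide)
  have h1 : Nat.card ↥(p.Q ⊓ centralizer ({p.s} : Set G)) < 128 := by
    rw [← p.card]
    refine lt_of_le_of_ne (card_le_of_le inf_le_left) fun e => h.ne (Subgroup.eq_of_le_of_card_ge inf_le_left e.ge)
  have h2 : Nat.card ↥(p.Q ⊓ centralizer ({p.s} : Set G)) ∣ 2 ^ 7 := by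
    rw [show (2 : ℕ) ^ 7 = 128 by norm_num, ← p.card]; exact Subgroup.card_dvd_of_le inf_le_left
  obtain ⟨i, hi, e⟩ := (Nat.dvd_prime_pow Nat.prime_two).mp h2
  have hcongr : Nat.card {x // p.A x} = Nat.card ↥(p.Q ⊓ centralizer ({p.s} : Set G)) :=
    Nat.card_congr (Equiv.subtypeEquivRight fun x => by
      show (x ∈ p.Q ∧ Commute x p.s) ↔ (x ∈ p.Q ∧ x ∈ centralizer ({p.s} : Set G))
      rw [mem_centralizer_singleton_iff]; rfl)
  rw [hcongr]
  rw [e] at h1 ⊢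
  interval_cases i <;> simp at h1 ⊢

/-- `Q` and its conjugate meet in the four-group. -/
theorem R_cap {r : G} (hr : p.R r) (hrQ : r ∈ p.Q) : p.InE r := by
  classical
  by_contra hne
  choose sct hsct hβ using fun w : {w // w ∈ W} => p.β_surj w.2
  let e5 : Fin 5 → G := ![1, z, p.s, z * p.s, r]
  have he5 : ∀ i, p.R (e5 i) ∧ e5 i ∈ p.Q := by
    intro i
    fin_cases i
    · exact ⟨p.E_R (Or.inl rfl), one_mem _⟩
    · exact ⟨p.E_R (Or.inr (Or.inl rfl)), p.X.mem⟩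
    · exact ⟨p.E_R (Or.inr (Or.inr (Or.inl rfl))), p.hs⟩
    · exact ⟨p.E_R (Or.inr (Or.inr (Or.inr rfl))), mul_mem p.X.mem p.hs⟩
    · exact ⟨hr, hrQ⟩
  have he5i : Function.Injective e5 := by
    simp only [InE, not_or] at hne
    obtain ⟨n1, n2, n3, n4⟩ := hne
    obtain ⟨a1, a2, a3⟩ := p.zs_ne
    intro i j h
    fin_cases i <;> fin_cases j <;> first | rfl | (exfalso; revert h; simp [e5, p.X.ne, p.s_ne.1, p.s_ne.2, a1, a2, a3,
      n1, n2, n3, n4, Ne.symm p.X.ne, Ne.symm p.s_ne.1, Ne.symm p.s_ne.2, Ne.symm a1, Ne.symm a2, Ne.symm a3,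
      Ne.symm n1, Ne.symm n2, Ne.symm n3, Ne.symm n4])
  let f : {w // w ∈ W} × Fin 5 → {x // p.A x} := fun u =>
    ⟨p.k⁻¹ * (sct u.1 * e5 u.2) * p.k, p.R_conj.mp (p.R_mul (hsct _) (he5 _).1)⟩
  have hf : Function.Injective f := fun u v h => by
    have h' : sct u.1 * e5 u.2 = sct v.1 * e5 v.2 := mul_left_cancel (mul_right_cancel (congrArg Subtype.val h))
    have hb := congrArg p.β h'
    rw [p.β_mul (hsct _) (he5 _).1, p.β_mul (hsct _) (he5 _).1, (p.β_zero (he5 _).1).mpr (he5 _).2,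
      (p.β_zero (he5 _).1).mpr (he5 _).2, hβ, hβ, Nat.xor_zero, Nat.xor_zero] at hb
    have h1 := Subtype.ext hb
    rw [h1] at h'
    exact Prod.ext h1 (he5i (mul_left_cancel h'))
  have hW : Nat.card {w // w ∈ W} = 16 := by
    rw [Nat.card_congr (Equiv.subtypeEquivRight fun w => (List.mem_toFinset).symm), Nat.card_eq_finsetCard]
    decide
  have := (Nat.card_le_card_of_injective f hf).trans p.card_A
  rw [Nat.card_prod, hW, Nat.card_fin] at this
  norm_num at this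

theorem R_fibre {r r' : G} (hr : p.R r) (hr' : p.R r') (h : p.β r = p.β r') : p.InE (r⁻¹ * r') := by
  have hm := p.R_mul (p.R_inv hr) hr'
  refine p.R_cap hm ((p.β_zero hm).mp ?_)
  have e : p.β r⁻¹ = p.β r := by
    have := p.β_mul (p.R_inv hr) hr
    rw [inv_mul_cancel, p.β_E (Or.inl rfl)] at this
    exact xor_eq_zero'.mp this.symm
  rw [p.β_mul (p.R_inv hr) hr', e, h, Nat.xor_self]

theorem R_sq_congr {r r' : G} (hr : p.R r) (hr' : p.R r') (h : p.β r = p.β r') : r * r = r' * r' := by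
  have he := p.R_fibre hr hr' h
  have hc := p.E_central he (p.R_T hr)
  have e : r' = r * (r⁻¹ * r') := (mul_inv_cancel_left r r').symm
  rw [e, hc.symm.mul_mul_mul_comm, p.E_sq he, mul_one]

/-- Squares in `R` follow the form of the section. -/
theorem β_sq {r : G} (hr : p.R r) : r * r = 1 ↔ qB (p.β r) = false := by
  let f := fun w => ∀ x, p.R x → p.β x = w → x * x = 1
  have f0 : f 0 := fun x hx e => p.E_sq (p.R_cap hx ((p.β_zero hx).mp e))
  have finv : ∀ h ∈ Om, cd h 1 = 1 → ∀ w ∈ W, f w → f (sa h w) := by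
    intro h hh h1 w hw hf x hx e
    obtain ⟨t, ht, rfl⟩ := p.T_lift hh h1
    obtain ⟨y, hy, ey⟩ := p.β_surj hw
    rw [p.R_sq_congr hx (p.R_norm ht hy) (by rw [e, p.β_conj ht hy, ey]),
      show t * y * t⁻¹ * (t * y * t⁻¹) = t * (y * y) * t⁻¹ by group, hf y hy ey, mul_one, mul_inv_cancel]
  have back : ∀ h ∈ Om, cd h 1 = 1 → ∀ w ∈ W, f (sa h w) → f w := by
    intro h hh h1 w hw hf
    have h1i : cd h⁻¹ 1 = 1 := by conv_lhs => rw [← h1, cd_inv h (by norm_num)]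
    have := finv _ (inv_mem hh) h1i _ (sa_mem _ _) hf
    obtain ⟨hl, hp, hn⟩ := W_lt w hw
    rwa [← sa_mul h1i h1 hl hp, inv_mul_cancel, sa, cd_one hl, hn] at this
  have h5 : ∀ w ∈ W, qB w = false → w ≠ 0 → (f w ↔ f 2) := fun w hw hq h0 => by
    obtain ⟨h, hh, h1, e⟩ := trans_w5 hw hq h0
    rw [← e]
    exact ⟨back h hh h1 2 (by decide), finv h hh h1 2 (by decide)⟩
  have h10 : ∀ w ∈ W, qB w = true → (f w ↔ f 10) := fun w hw hq => by
    obtain ⟨h, hh, h1, e⟩ := trans_w10 hw hq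
    rw [← e]
    exact ⟨back h hh h1 10 (by decide), finv h hh h1 10 (by decide)⟩
  have hA : ∀ x, p.R x → p.A (p.k⁻¹ * x * p.k) := fun x hx => p.R_conj.mp hx
  have hsq' : ∀ x, x * x = 1 ↔ (p.k⁻¹ * x * p.k) * (p.k⁻¹ * x * p.k) = 1 := fun x => by
    constructor <;> intro h
    · rw [show p.k⁻¹ * x * p.k * (p.k⁻¹ * x * p.k) = p.k⁻¹ * (x * x) * p.k by group, h]; group
    · rw [show x * x = p.k * ((p.k⁻¹ * x * p.k) * (p.k⁻¹ * x * p.k)) * p.k⁻¹ by group, h]; group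
  have hn10 : ¬ f 10 := fun hf => by
    have hf' : ∀ w ∈ W, qB w = true → f w := fun w hw hq => (h10 w hw hq).mpr hf
    obtain ⟨x, hx, ex⟩ := p.β_surj (w := 10) (by decide)
    obtain ⟨y, hy, ey⟩ := p.β_surj (w := 18) (by decide)
    have hxy : p.R (x * y) := p.R_mul hx hy
    have exy : p.β (x * y) = 10 ^^^ 18 := by rw [p.β_mul hx hy, ex, ey]
    have i1 := hf' 10 (by decide) (by decide) x hx ex
    have i2 := hf' 18 (by decide) (by decide) y hy ey
    have i3 := hf' (10 ^^^ 18) (by decide) (by decide) _ hxy exy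
    set a := p.k⁻¹ * x * p.k with ha
    set b := p.k⁻¹ * y * p.k with hb
    have a1 := (p.α_sq (hA x hx)).mp ((hsq' x).mp i1)
    have b1 := (p.α_sq (hA y hy)).mp ((hsq' y).mp i2)
    have c1 := (hsq' (x * y)).mp i3
    have hab : p.k⁻¹ * (x * y) * p.k = a * b := by rw [ha, hb]; group
    rw [hab] at c1
    have hc : Commute a b := by
      have e1 := inv_eq_of_mul_eq_one_right ((hsq' x).mp i1)
      have e2 := inv_eq_of_mul_eq_one_right ((hsq' y).mp i2)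
      have e3 := inv_eq_of_mul_eq_one_right c1
      rw [mul_inv_rev] at e3
      rw [e1, e2] at e3
      exact e3.symm
    have hne : ∀ v, p.R v → p.β v ≠ 0 → p.α (p.k⁻¹ * v * p.k) ≠ 0 := fun v hv hv0 e => by
      refine hv0 ((p.β_zero hv).mpr ?_)
      have hE := p.α_zero (hA v hv) e
      rcases hE with e' | e' | e' | e'
      · rw [show v = p.k * (p.k⁻¹ * v * p.k) * p.k⁻¹ by group, e']; simp
      · rw [show v = p.k * (p.k⁻¹ * v * p.k) * p.k⁻¹ by group, e', p.kz]; exact p.hs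
      · rw [show v = p.k * (p.k⁻¹ * v * p.k) * p.k⁻¹ by group, e', p.ks]; exact p.X.mem
      · rw [show v = p.k * (p.k⁻¹ * v * p.k) * p.k⁻¹ by group, e',
          show p.k * (z * p.s) * p.k⁻¹ = (p.k * z * p.k⁻¹) * (p.k * p.s * p.k⁻¹) by group, p.kz, p.ks]
        exact mul_mem p.hs p.X.mem
    have e := (two_sing _ (p.α_mem a) _ (p.α_mem b) (hne x hx (by rw [ex]; decide)) (hne y hy (by rw [ey]; decide))
      a1 b1).mp ((p.α_comm (hA x hx) (hA y hy)).mp hc)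
    refine hne (x * y) hxy (by rw [exy]; decide) ?_
    rw [hab, p.α_mul (hA x hx) (hA y hy), e, Nat.xor_self]
  have hy2 : f 2 := by
    by_contra hn
    obtain ⟨a, ha, ea⟩ := p.α_surj (w := 2) (by decide)
    have hR := p.A_conj.mp ha
    have hi : p.k * a * p.k⁻¹ * (p.k * a * p.k⁻¹) = 1 := by
      rw [show p.k * a * p.k⁻¹ * (p.k * a * p.k⁻¹) = p.k * (a * a) * p.k⁻¹ by group,
        (p.α_sq ha).mpr (by rw [ea]; decide), mul_one, mul_inv_cancel]
    have key : ∀ w ∈ W, w ≠ 0 → ¬ f w := fun w hw h0 hf => by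
      cases hq : qB w
      · exact hn ((h5 w hw hq h0).mp hf)
      · exact hn10 ((h10 w hw hq).mp hf)
    have h0 : p.β (p.k * a * p.k⁻¹) = 0 := by
      by_contra h0
      exact key _ (p.β_mem _) h0 fun x hx e => by rw [p.R_sq_congr hx hR e, hi]
    have hE := p.R_cap hR ((p.β_zero hR).mp h0)
    have : p.α a = 0 := by
      rcases hE with e' | e' | e' | e'
      · rw [show a = p.k⁻¹ * (p.k * a * p.k⁻¹) * p.k by group, e']
        simp [α, p.toCtx.pi_one, nr]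
      · rw [show a = p.k⁻¹ * (p.k * a * p.k⁻¹) * p.k by group, e', p.kinv_z]; exact p.α_E (Or.inr (Or.inr (Or.inl rfl)))
      · rw [show a = p.k⁻¹ * (p.k * a * p.k⁻¹) * p.k by group, e', p.kinv_s]; exact p.α_E (Or.inr (Or.inl rfl))
      · rw [show a = p.k⁻¹ * (p.k * a * p.k⁻¹) * p.k by group, e',
          show p.k⁻¹ * (z * p.s) * p.k = (p.k⁻¹ * z * p.k) * (p.k⁻¹ * p.s * p.k) by group, p.kinv_z, p.kinv_s,
          p.sz.eq]
        exact p.α_E (Or.inr (Or.inr (Or.inr rfl)))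
    rw [ea] at this
    exact absurd this (by decide)
  have hw := p.β_mem r
  constructor
  · intro h
    by_contra hq
    rw [Bool.not_eq_false] at hq
    exact hn10 ((h10 _ hw hq).mp fun x hx e => by rw [p.R_sq_congr hx hr e, h])
  · intro hq
    rcases eq_or_ne (p.β r) 0 with e | e
    · exact f0 r hr e
    · exact (h5 _ hw hq e).mpr hy2 r hr rfl

end Pt

end Cfsg.Lib.SuzukiType
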