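import Cfsg.Agent.SuzukiType.Code
import Cfsg.Agent.Classical.Misc.Dickson
import Cfsg.Agent.Classical.Misc.Spinor
import Cfsg.Agent.Classical.Misc.NegOne

/-!
Isometries of the elliptic space of dimension six over the field with two elements on coded vectors.
-/

set_option autoImplicit false
set_option maxRecDepth 100000
set_option maxHeartbeats 1000000
set_option linter.style.haveILetI false

namespace Cfsg.Lib.SuzukiType

open Matrix Cfsg.Lib.Classical Cfsg.Lib.Classical.OrthH1 Cfsg.Lib.Classical.Refl Cfsg.Lib.SuzukiType.Code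
open scoped commutatorElement

/-- The index type. -/
abbrev I6 := (Fin 2 ⊕ Fin 2) ⊕ Fin 2

/-- The form. -/
abbrev qf : QuadraticForm (ZMod 2) (I6 → ZMod 2) := Refl.minusForm 2 (ZMod 2) 1 1

/-- The isometry group. -/
abbrev O6 := ↥(Cfsg.isometryGroup (ZMod 2) (⇑qf))

/-- The numbering of the coordinates. -/
def e6 : I6 ≃ Fin 6 :=
  (Equiv.sumCongr finSumFinEquiv (Equiv.refl (Fin 2))).trans finSumFinEquiv

theorem hq : ∀ x < 2 ^ 6, qf (OrthH1.dec e6 x) = ofBit (qB x) := by
  have h : ∀ x < 64, Cfsg.quadFormMinus 2 (ZMod 2) 1 1 (OrthH1.dec e6 x) = ofBit (qB x) := by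
    unfold Cfsg.quadFormMinus
    decide +kernel
  intro x hx
  rw [Refl.minusForm_coe]
  exact h x hx

/-- The code of a vector. -/
noncomputable def en (v : I6 → ZMod 2) : ℕ := (exists_code e6 v).choose

theorem en_lt (v : I6 → ZMod 2) : en v < 64 := (exists_code e6 v).choose_spec.1

theorem dec_en (v : I6 → ZMod 2) : OrthH1.dec e6 (en v) = v := (exists_code e6 v).choose_spec.2

theorem dec_inj : ∀ x < 64, ∀ y < 64, OrthH1.dec e6 x = OrthH1.dec e6 y → x = y := by
  intro x hx y hy h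
  refine Nat.eq_of_testBit_eq fun i => ?_
  by_cases hi : i < 6
  · have := congrFun h (e6.symm ⟨i, hi⟩)
    simp only [OrthH1.dec, Equiv.apply_symm_apply] at this
    revert this
    cases x.testBit i <;> cases y.testBit i <;> simp
  · rw [Nat.testBit_lt_two_pow (lt_of_lt_of_le hx (Nat.pow_le_pow_right two_pos (not_lt.mp hi) : 2 ^ 6 ≤ _)),
      Nat.testBit_lt_two_pow (lt_of_lt_of_le hy (Nat.pow_le_pow_right two_pos (not_lt.mp hi) : 2 ^ 6 ≤ _))]

theorem en_dec {x : ℕ} (hx : x < 64) : en (OrthH1.dec e6 x) = x := dec_inj _ (en_lt _) _ hx (dec_en _)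

theorem ofBit_inj : ∀ a b : Bool, ofBit a = ofBit b → a = b := by decide

theorem en_add (v w : I6 → ZMod 2) : en (v + w) = en v ^^^ en w :=
  dec_inj _ (en_lt _) _ (Nat.xor_lt_two_pow (en_lt v) (en_lt w) : _ < 2 ^ 6)
    (by rw [dec_en, dec_xor, dec_en, dec_en])

theorem en_zero : en 0 = 0 := by rw [← dec_zero e6, en_dec (by norm_num)]

theorem en_eq_zero {v : I6 → ZMod 2} : en v = 0 ↔ v = 0 :=
  ⟨fun h => by rw [← dec_en v, h, dec_zero], fun h => h ▸ en_zero⟩

theorem q_en (v : I6 → ZMod 2) : qf v = ofBit (qB (en v)) := by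
  conv_lhs => rw [← dec_en v]
  exact hq _ (en_lt v)

theorem polar_en (v w : I6 → ZMod 2) : QuadraticMap.polar (⇑qf) v w = ofBit (pB (en v) (en w)) := by
  conv_lhs => rw [← dec_en v, ← dec_en w]
  exact polar_dec qB e6 hq (en_lt v) (en_lt w)

theorem nondeg : (QuadraticMap.polarBilin qf).Nondegenerate := by
  have hc : ∀ x < 64, x ≠ 0 → ∃ y < 64, pB x y = true := by decide +kernel
  have h : ∀ v, (∀ w, QuadraticMap.polar (⇑qf) v w = 0) → v = 0 := fun v hv => by
    by_contra hne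
    obtain ⟨y, hy, hp⟩ := hc _ (en_lt v) (fun e => hne (en_eq_zero.mp e))
    have := hv (OrthH1.dec e6 y)
    rw [polar_en, en_dec hy, hp] at this
    exact absurd this (by decide)
  exact ⟨fun v hv => h v fun w => hv w, fun v hv => h v fun w => by rw [QuadraticMap.polar_comm]; exact hv w⟩

/-- The action on codes. -/
noncomputable def cd (g : O6) (x : ℕ) : ℕ := en (mat qf g *ᵥ OrthH1.dec e6 x)

theorem cd_lt (g : O6) (x : ℕ) : cd g x < 64 := en_lt _

theorem dec_cd (g : O6) (x : ℕ) : OrthH1.dec e6 (cd g x) = mat qf g *ᵥ OrthH1.dec e6 x := dec_en _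

theorem cd_en (g : O6) (v : I6 → ZMod 2) : cd g (en v) = en (mat qf g *ᵥ v) := by rw [cd, dec_en]

theorem cd_mul (g h : O6) (x : ℕ) : cd (g * h) x = cd g (cd h x) := by
  rw [cd, cd, dec_cd, mulVec_mul]

theorem cd_one {x : ℕ} (hx : x < 64) : cd 1 x = x := by
  rw [cd, show mat qf 1 = 1 from rfl, Matrix.one_mulVec, en_dec hx]

theorem cd_inv (g : O6) {x : ℕ} (hx : x < 64) : cd g⁻¹ (cd g x) = x := by
  rw [← cd_mul, inv_mul_cancel, cd_one hx]

theorem cd_inv' (g : O6) {x : ℕ} (hx : x < 64) : cd g (cd g⁻¹ x) = x := by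
  rw [← cd_mul, mul_inv_cancel, cd_one hx]

theorem cd_xor (g : O6) (x y : ℕ) : cd g (x ^^^ y) = cd g x ^^^ cd g y := by
  rw [cd, dec_xor, Matrix.mulVec_add, en_add]; rfl

theorem cd_zero (g : O6) : cd g 0 = 0 := by rw [cd, dec_zero, Matrix.mulVec_zero, en_zero]

theorem cd_q (g : O6) {x : ℕ} (hx : x < 64) : qB (cd g x) = qB x :=
  ofBit_inj _ _ (by rw [← hq _ (cd_lt g x : _ < 2 ^ 6), dec_cd, (Refl.mem_iff qf).mp g.2, hq _ (hx : x < 2 ^ 6)])

theorem cd_p (g : O6) {x y : ℕ} (hx : x < 64) (hy : y < 64) : pB (cd g x) (cd g y) = pB x y := by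
  show (qB _ ^^ qB _ ^^ qB _) = (qB _ ^^ qB _ ^^ qB _)
  rw [← cd_xor, cd_q g hx, cd_q g hy, cd_q g (Nat.xor_lt_two_pow hx hy : _ < 2 ^ 6)]

theorem cd_ext {g h : O6} (e : ∀ x < 64, cd g x = cd h x) : g = h :=
  ext_dec qB e6 hq fun x hx => by rw [← dec_cd, ← dec_cd, e x hx]

theorem cd_bif (g : O6) (c : Bool) (x : ℕ) : cd g (bif c then x else 0) = bif c then cd g x else 0 := by
  cases c <;> simp [cd_zero]

theorem code_bits : ∀ x < 64, ap 2 4 8 16 32 x = x := by decide +kernel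

/-- An element fixing the point with code one is given by the other five images. -/
theorem cd_ap {g : O6} (h1 : cd g 1 = 1) {x : ℕ} (hx : x < 64) :
    cd g x = ap (cd g 2) (cd g 4) (cd g 8) (cd g 16) (cd g 32) x := by
  conv_lhs => rw [← code_bits x hx]
  simp only [ap, cd_xor, cd_bif, h1]

theorem qT_eq {x : ℕ} (hx : x < 64) : qT x = qB x :=
  beq_iff_eq.mp (List.all_eq_true.mp table_q x (List.mem_range.mpr hx))

theorem pT_eq {x y : ℕ} (hx : x < 64) (hy : y < 64) : pT x y = pB x y :=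
  beq_iff_eq.mp (List.all_eq_true.mp (List.all_eq_true.mp table_p x (List.mem_range.mpr hx)) y (List.mem_range.mpr hy))

theorem mem_list {x : ℕ} (hx : x < 64) : (qB x = true → x ∈ nons) ∧ (qB x = false → x ∈ sing) := by
  have h := List.all_eq_true.mp lists_ok x (List.mem_range.mpr hx)
  constructor <;> intro e <;> simpa [e] using h

theorem of_chk {P : ℕ → ℕ → ℕ → ℕ → ℕ → Bool} (h : chk P = true) {g : O6} (h1 : cd g 1 = 1) :
    P (cd g 2) (cd g 4) (cd g 8) (cd g 16) (cd g 32) = true := by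
  have hp : ∀ i < 64, ∀ j < 64, pT (cd g i) (cd g j) = pB i j := fun i hi j hj => by
    rw [pT_eq (cd_lt g i) (cd_lt g j), cd_p g hi hj]
  have ha := (mem_list (cd_lt g 2)).2 (by rw [cd_q g (by norm_num)]; decide)
  have hb := (mem_list (cd_lt g 4)).2 (by rw [cd_q g (by norm_num)]; decide)
  have hc := (mem_list (cd_lt g 8)).2 (by rw [cd_q g (by norm_num)]; decide)
  have hd := (mem_list (cd_lt g 16)).1 (by rw [cd_q g (by norm_num)]; decide)
  have he := (mem_list (cd_lt g 32)).1 (by rw [cd_q g (by norm_num)]; decide)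
  have p1 : ∀ j < 64, pT 1 (cd g j) = pB 1 j := fun j hj => by
    have := hp 1 (by norm_num) j hj
    rwa [h1] at this
  have := List.all_eq_true.mp h _ ha
  simp only [p1 2 (by norm_num), show pB 1 2 = false by decide, Bool.false_or] at this
  have := List.all_eq_true.mp this _ hb
  simp only [p1 4 (by norm_num), hp 2 (by norm_num) 4 (by norm_num), show pB 1 4 = true by decide,
    show pB 2 4 = false by decide, Bool.not_true, Bool.false_or] at this
  have := List.all_eq_true.mp this _ hc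
  simp only [p1 8 (by norm_num), hp 2 (by norm_num) 8 (by norm_num), hp 4 (by norm_num) 8 (by norm_num),
    show pB 1 8 = false by decide, show pB 2 8 = true by decide, show pB 4 8 = false by decide, Bool.not_true,
    Bool.false_or] at this
  have := List.all_eq_true.mp this _ hd
  simp only [p1 16 (by norm_num), hp 2 (by norm_num) 16 (by norm_num), hp 4 (by norm_num) 16 (by norm_num),
    hp 8 (by norm_num) 16 (by norm_num), show pB 1 16 = false by decide, show pB 2 16 = false by decide,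
    show pB 4 16 = false by decide, show pB 8 16 = false by decide, Bool.false_or] at this
  have := List.all_eq_true.mp this _ he
  simp only [p1 32 (by norm_num), hp 2 (by norm_num) 32 (by norm_num), hp 4 (by norm_num) 32 (by norm_num),
    hp 8 (by norm_num) 32 (by norm_num), hp 16 (by norm_num) 32 (by norm_num), show pB 1 32 = false by decide,
    show pB 2 32 = false by decide, show pB 4 32 = false by decide, show pB 8 32 = false by decide,
    show pB 16 32 = true by decide, Bool.not_true, Bool.false_or] at this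
  exact this

/-- The three checks at an element fixing the point with code one. -/
theorem checks {g : O6} (h1 : cd g 1 = 1) :
    radChk (cd g 2) (cd g 4) (cd g 8) (cd g 16) (cd g 32) = true ∧
    normChk (cd g 2) (cd g 4) (cd g 8) (cd g 16) (cd g 32) = true ∧
    invChk (cd g 2) (cd g 4) (cd g 8) (cd g 16) (cd g 32) = true := by
  have := of_chk stab_checks h1
  simpa only [Bool.and_eq_true, and_assoc] using this

/-- A product of two reflections. -/
noncomputable def pel (t : ℕ × ℕ) (h : t.1 < 64 ∧ t.2 < 64 ∧ qB t.1 = true ∧ qB t.2 = true) : O6 :=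
  refl qf (OrthH1.dec e6 t.1) (by rw [hq _ (h.1 : t.1 < 2 ^ 6), h.2.2.1]; decide) *
    refl qf (OrthH1.dec e6 t.2) (by rw [hq _ (h.2.1 : t.2 < 2 ^ 6), h.2.2.2]; decide)

theorem cd_refl {u : ℕ} (hu : u < 64) (h : qf (OrthH1.dec e6 u) ≠ 0) {x : ℕ} (hx : x < 64) :
    cd (refl qf (OrthH1.dec e6 u) h) x = rf u x := by
  have h1 : qf (OrthH1.dec e6 u) = 1 := by
    revert h; generalize qf (OrthH1.dec e6 u) = a; revert a; decide
  refine dec_inj _ (cd_lt _ _) _ (by rw [rf]; split <;> [exact (Nat.xor_lt_two_pow hx hu : _ < 2 ^ 6); exact hx]) ?_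
  rw [dec_cd, show mat qf (refl qf _ h) = _ from Refl.coe_refl qf _ h, Refl.mulVec_eq, h1, inv_one, one_mul,
    polar_dec qB e6 hq hu hx, rf]
  show OrthH1.dec e6 x - ofBit (pN qB u x) • OrthH1.dec e6 u = OrthH1.dec e6 (if pN qB u x = true then x ^^^ u else x)
  cases pN qB u x
  · simp [ofBit]
  · rw [if_pos rfl, dec_xor]
    simp [ofBit, CharTwo.sub_eq_add]

theorem cd_pel (t : ℕ × ℕ) (h : t.1 < 64 ∧ t.2 < 64 ∧ qB t.1 = true ∧ qB t.2 = true) {x : ℕ} (hx : x < 64) :
    cd (pel t h) x = rf t.1 (rf t.2 x) := by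
  rw [pel, cd_mul, cd_refl h.1 _ (cd_lt _ _), cd_refl h.2.1 _ hx]

theorem rf_sq : ∀ u < 64, ∀ x < 64, qB u = true → rf u x < 64 ∧ rf u (rf u x) = x := by decide +kernel

theorem pel_mem (t : ℕ × ℕ) (h : t.1 < 64 ∧ t.2 < 64 ∧ qB t.1 = true ∧ qB t.2 = true)
    (h3 : ∀ x < 64, rf t.2 (rf t.1 (rf t.2 (rf t.1 x))) = rf t.1 (rf t.2 x)) : pel t h ∈ Cfsg.Omega (ZMod 2) (⇑qf) := by
  obtain ⟨u, v⟩ := t
  obtain ⟨hu, hv, hqu, hqv⟩ := h
  set ru := refl qf (OrthH1.dec e6 u) (by rw [hq _ (hu : u < 2 ^ 6), hqu]; decide) with hru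
  set rv := refl qf (OrthH1.dec e6 v) (by rw [hq _ (hv : v < 2 ^ 6), hqv]; decide) with hrv
  have hru' : ru * ru = 1 := cd_ext fun x hx => by
    rw [cd_mul, cd_refl hu _ (cd_lt _ _), cd_refl hu _ hx, (rf_sq u hu x hx hqu).2, cd_one hx]
  have hrv' : rv * rv = 1 := cd_ext fun x hx => by
    rw [cd_mul, cd_refl hv _ (cd_lt _ _), cd_refl hv _ hx, (rf_sq v hv x hx hqv).2, cd_one hx]
  have e : pel (u, v) ⟨hu, hv, hqu, hqv⟩ = ⁅rv, ru⁆ := by
    rw [commutatorElement_def, inv_eq_of_mul_eq_one_right hru', inv_eq_of_mul_eq_one_right hrv']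
    refine cd_ext fun x hx => ?_
    rw [cd_pel _ _ hx, cd_mul, cd_mul, cd_mul, cd_refl hu _ hx, cd_refl hv _ (rf_sq u hu x hx hqu).1,
      cd_refl hu _ (rf_sq v hv _ (rf_sq u hu x hx hqu).1 hqv).1, cd_refl hv _ (rf_sq u hu _ (rf_sq v hv _ (rf_sq u hu x hx hqu).1 hqv).1 hqu).1]
    exact (h3 x hx).symm
  rw [e]
  exact Subgroup.commutator_mem_commutator (Subgroup.mem_top _) (Subgroup.mem_top _)

theorem gens_rel : ∀ t ∈ g1 ++ g2, ∀ x < 64, rf t.2 (rf t.1 (rf t.2 (rf t.1 x))) = rf t.1 (rf t.2 x) := by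
  decide +kernel

/-- A word in the generators is realised in `Ω`. -/
theorem exists_word (gs : List (ℕ × ℕ)) (hgs : ∀ t ∈ gs, t.1 < 64 ∧ t.2 < 64 ∧ qB t.1 = true ∧ qB t.2 = true ∧ t ∈ g1 ++ g2)
    (w : List ℕ) (hw : ∀ i ∈ w, i < gs.length) :
    ∃ g ∈ Cfsg.Omega (ZMod 2) (⇑qf), ∀ x < 64, cd g x = wact gs w x := by
  induction w with
  | nil => exact ⟨1, one_mem _, fun x hx => cd_one hx⟩
  | cons i w ih =>
    obtain ⟨g, hg, he⟩ := ih fun j hj => hw j (List.mem_cons_of_mem _ hj)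
    have hi := hw i (List.mem_cons_self ..)
    obtain ⟨a, b, c, d, f⟩ := hgs gs[i] (List.getElem_mem hi)
    refine ⟨pel gs[i] ⟨a, b, c, d⟩ * g, mul_mem (pel_mem _ _ (gens_rel _ f)) hg, fun x hx => ?_⟩
    rw [cd_mul, cd_pel _ _ (cd_lt _ _), he x hx, show gs[i] = gs.getD i (0, 0) from (List.getD_eq_getElem _ _ hi).symm]
    rfl

theorem exists_word1 (w : List ℕ) (hw : ∀ i ∈ w, i < g1.length) :
    ∃ g ∈ Cfsg.Omega (ZMod 2) (⇑qf), ∀ x < 64, cd g x = wact g1 w x :=
  exists_word g1 (fun t ht => ⟨(g1_ok t ht).1, (g1_ok t ht).2.1, (g1_ok t ht).2.2.1, (g1_ok t ht).2.2.2.1,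
    List.mem_append_left _ ht⟩) w hw

theorem exists_word2 (w : List ℕ) (hw : ∀ i ∈ w, i < g2.length) :
    ∃ g ∈ Cfsg.Omega (ZMod 2) (⇑qf), ∀ x < 64, cd g x = wact g2 w x :=
  exists_word g2 (fun t ht => ⟨(g2_ok t ht).1, (g2_ok t ht).2.1, (g2_ok t ht).2.2.1, (g2_ok t ht).2.2.2.1,
    List.mem_append_right _ ht⟩) w hw

theorem fix_count {g : O6} (hg : g ∈ Cfsg.Omega (ZMod 2) (⇑qf)) :
    (V64.foldr (fun x n => bif cd g x == x then n + 1 else n) 0) ∈ [1, 4, 16, 64] := by
  classical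
  have hfold : ∀ (p : ℕ → Bool) (l : List ℕ), l.foldr (fun x n => bif p x then n + 1 else n) 0 = (l.filter p).length := by
    intro p l
    induction l with
    | nil => rfl
    | cons a l ih => rw [List.foldr_cons, ih, List.filter_cons]; cases p a <;> simp
  have hd : Refl.dickson qf nondeg g = 1 := hom_eq_one_of_omega qf (Refl.dickson qf nondeg) hg
  have heven : Even (gap qf g 1) := (neg_one_pow_eq_one_iff_even (by decide)).mp hd
  set K := LinearMap.ker (Matrix.toLin' (mat qf g) - Matrix.toLin' (mat qf 1)) with hK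
  have hmem : ∀ v, v ∈ K ↔ mat qf g *ᵥ v = v := fun v => by
    rw [hK, LinearMap.mem_ker, LinearMap.sub_apply, sub_eq_zero, Matrix.toLin'_apply, Matrix.toLin'_apply,
      show mat qf 1 = 1 from rfl, Matrix.one_mulVec]
  rw [hfold, show V64 = List.range 64 by decide]
  have hc : Nat.card K = ((List.range 64).filter fun x => cd g x == x).length := by
    rw [← List.toFinset_card_of_nodup (List.nodup_range.filter _), ← Nat.card_eq_finsetCard]
    refine Nat.card_congr ⟨fun v => ⟨en (v : I6 → ZMod 2), ?_⟩, fun x => ⟨OrthH1.dec e6 x.1, ?_⟩,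
      fun v => Subtype.ext (dec_en _), fun x => Subtype.ext (en_dec ?_)⟩
    · simp only [List.mem_toFinset, List.mem_filter, List.mem_range, beq_iff_eq]
      exact ⟨en_lt _, by rw [cd_en, (hmem _).mp v.2]⟩
    · obtain ⟨x, hx⟩ := x
      simp only [List.mem_toFinset, List.mem_filter, List.mem_range, beq_iff_eq] at hx
      rw [hmem, ← dec_cd, hx.2]
    · exact List.mem_range.mp (List.mem_of_mem_filter (List.mem_toFinset.mp x.2))
  rw [gap, ← hK, show Fintype.card I6 = 6 by decide] at heven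
  have hn : Module.finrank (ZMod 2) K ≤ 6 := (Submodule.finrank_le _).trans (by simp)
  rw [← hc, Module.natCard_eq_pow_finrank (K := ZMod 2), Nat.card_zmod]
  generalize Module.finrank (ZMod 2) K = d at hn heven
  interval_cases d <;> simp_all +decide

end Cfsg.Lib.SuzukiType
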